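import Groth.Agent.Fano.K22.HLine
import Mathlib.RingTheory.MvPolynomial.EulerIdentity
import Mathlib.LinearAlgebra.Matrix.Rank

/-!
# A double line in a plane, on the generic hypersurface
-/

set_option autoImplicit false

universe u v

open MvPolynomial

namespace K22.HCon

open K745.ConDef K745.HDef W4swstmapratcurves Groth.Agent.Lefpen.H701 K22.HSub

section Taylor

/-- First order Taylor expansion. -/
theorem taylor {ι : Type*} [Fintype ι] {A R : Type*} [CommRing A] [CommRing R] [Algebra A R] (u v : ι → R) (ε : R)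
    (P : MvPolynomial ι A) :
    ε ^ 2 ∣ aeval (fun i => u i + ε * v i) P - aeval u P - ε * ∑ i, v i * aeval u (pderiv i P) := by
  classical
  induction P using MvPolynomial.induction_on with
  | C a => simp
  | add p q hp hq =>
    have h := dvd_add hp hq
    convert h using 1
    simp only [map_add, mul_add, Finset.sum_add_distrib]
    ring
  | mul_X p i hp =>
    obtain ⟨q, hq⟩ := hp
    have h1 : aeval (fun i => u i + ε * v i) p = aeval u p + ε * ∑ i, v i * aeval u (pderiv i p) + ε ^ 2 * q := by
      linear_combination hq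
    have h2 : ∑ j, v j * aeval u (pderiv j (p * X i)) =
        (∑ j, v j * aeval u (pderiv j p)) * u i + aeval u p * v i := by
      have h3 : ∀ j, v j * aeval u (pderiv j (p * X i)) =
          v j * aeval u (pderiv j p) * u i + (if j = i then aeval u p * v j else 0) := by
        intro j
        rw [Derivation.leibniz, pderiv_X, map_add, smul_eq_mul, smul_eq_mul, map_mul, map_mul, aeval_X]
        by_cases hj : j = i
        · subst hj
          rw [Pi.single_eq_same, map_one, if_pos rfl]
          ring
        · rw [Pi.single_eq_of_ne (Ne.symm hj), map_zero, if_neg hj]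
          ring
      simp_rw [h3, Finset.sum_add_distrib, ← Finset.sum_mul]
      simp
    rw [h2, map_mul, map_mul, aeval_X, aeval_X, h1]
    refine ⟨(∑ i, v i * aeval u (pderiv i p)) * v i + q * (u i + ε * v i), ?_⟩
    ring

end Taylor

section Lin

variable {n d : ℕ} {Y : Type u} [Field Y]

/-- The line with the points `x, a`. -/
noncomputable def ln (x a : Fin (n + 1) → Y) (l : Fin (n + 1)) : MvPolynomial (Fin 2) Y :=
  MvPolynomial.C (x l) * MvPolynomial.X 0 + MvPolynomial.C (a l) * MvPolynomial.X 1

theorem isHomogeneous_ln (x a : Fin (n + 1) → Y) (l : Fin (n + 1)) : (ln x a l).IsHomogeneous 1 := by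
  unfold ln
  refine IsHomogeneous.add ?_ ?_
  · have := (isHomogeneous_C (Fin 2) (x l)).mul (isHomogeneous_X Y (0 : Fin 2))
    rwa [zero_add] at this
  · have := (isHomogeneous_C (Fin 2) (a l)).mul (isHomogeneous_X Y (1 : Fin 2))
    rwa [zero_add] at this

/-- A binary form of degree `m` vanishes if `m + 1` coefficients vanish. -/
theorem eq_zero_of_coeff (m : ℕ) (P : MvPolynomial (Fin 2) Y) (hP : P.IsHomogeneous m)
    (h : ∀ j : ℕ, j < m + 1 → coeff (Finsupp.single 0 j + Finsupp.single 1 (m - j)) P = 0) : P = 0 := by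
  ext e
  rw [coeff_zero]
  by_contra he
  have h1 : e.degree = m := by
    have h2 := hP he
    rw [← h2]
    simp [Finsupp.weight_apply, Finsupp.degree_eq_sum, Finsupp.sum_fintype]
  apply he
  have h2 : e 0 + e 1 = m := by
    rw [← h1, Finsupp.degree_eq_sum]
    simp
  have h3 : e = Finsupp.single 0 (e 0) + Finsupp.single 1 (m - e 0) := by
    ext i
    fin_cases i
    · simp
    · simp
      omega
  rw [h3]
  exact h _ (by omega)

open Module in
/-- The third vector. -/
theorem exists_third (hdn : d + 2 ≤ n) (x a : Fin (n + 1) → Y) (hxa : LinearIndependent Y ![x, a])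
    (D : Fin (n + 1) → MvPolynomial (Fin 2) Y) (hD : ∀ l, (D l).IsHomogeneous (d - 1)) (hd : 1 ≤ d) :
    ∃ b : Fin (n + 1) → Y, LinearIndependent Y ![b, x, a] ∧ ∑ l, C (b l) * D l = 0 := by
  classical
  let M : Matrix (Fin d) (Fin (n + 1)) Y := fun j l =>
    coeff (Finsupp.single 0 j.val + Finsupp.single 1 (d - 1 - j.val)) (D l)
  have h1 := LinearMap.finrank_range_add_finrank_ker M.mulVecLin
  have h2 : finrank Y (LinearMap.range M.mulVecLin) ≤ d := by
    refine (Submodule.finrank_le _).trans ?_
    simp
  have h3 : finrank Y (Submodule.span Y (Set.range ![x, a])) ≤ 2 := by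
    exact finrank_range_le_card (R := Y) ![x, a]
  rw [finrank_pi, Fintype.card_fin] at h1
  obtain ⟨b, hb, hb'⟩ : ∃ b ∈ LinearMap.ker M.mulVecLin, b ∉ Submodule.span Y (Set.range ![x, a]) := by
    by_contra! hall
    have h4 : finrank Y (LinearMap.ker M.mulVecLin) ≤ finrank Y (Submodule.span Y (Set.range ![x, a])) :=
      Submodule.finrank_mono hall
    omega
  refine ⟨b, ?_, ?_⟩
  · exact linearIndependent_finCons.mpr ⟨hxa, hb'⟩
  · refine eq_zero_of_coeff (d - 1) _ ?_ ?_
    · refine IsHomogeneous.sum _ _ _ fun l _ => ?_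
      have := (isHomogeneous_C (Fin 2) (b l)).mul (hD l)
      rwa [zero_add] at this
    · intro j hj
      have h4 := congrFun (LinearMap.mem_ker.mp hb) ⟨j, by omega⟩
      rw [coeff_sum]
      simp only [coeff_C_mul]
      refine Eq.trans (Finset.sum_congr rfl fun l _ => mul_comm _ _) h4

open Module in
/-- A nonzero minor. -/
theorem exists_det3 (φ : Fin (n + 1) → Fin 3 → Y) (h : LinearIndependent Y fun i l => φ l i) :
    ∃ l : Fin 3 → Fin (n + 1), Function.Injective l ∧ det3 φ l ≠ 0 := by
  let M : Matrix (Fin (n + 1)) (Fin 3) Y := Matrix.of φ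
  have h1 : M.rank = 3 := by
    rw [← Matrix.rank_transpose]
    have := LinearIndependent.rank_matrix (M := M.transpose) h
    rw [this, Fintype.card_fin]
  have h2 : finrank Y (Submodule.span Y (Set.range φ)) = 3 := by
    rw [Matrix.rank_eq_finrank_span_row] at h1
    exact h1
  have h3 := Submodule.exists_fun_fin_finrank_span_eq Y (Set.range φ)
  rw [h2] at h3
  obtain ⟨f, hf, -, hfi⟩ := h3
  choose l hl using hf
  refine ⟨l, ?_, ?_⟩
  · intro i j hij
    apply hfi.injective
    rw [← hl i, ← hl j, hij]
  · unfold det3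
    have h4' : (Matrix.of fun i j => φ (l i) j).row = f := by
      ext i j
      rw [← hl i]
      rfl
    have h4 : LinearIndependent Y (Matrix.of fun i j => φ (l i) j).row := by
      rw [h4']
      exact hfi
    rw [Matrix.linearIndependent_rows_iff_isUnit, Matrix.isUnit_iff_isUnit_det] at h4
    exact h4.ne_zero

/-- Permutation of the exponents. -/
noncomputable def permFI (π : Equiv.Perm (Fin (n + 1))) (β : FI n d) : FI n d :=
  ⟨Finsupp.mapDomain π β.1, by
    rw [Finsupp.degree_mapDomain]
    exact β.2⟩

theorem permFI_injective (π : Equiv.Perm (Fin (n + 1))) : Function.Injective (permFI (d := d) π) := by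
  intro β β' h
  have h1 := congrArg Subtype.val h
  exact Subtype.ext (Finsupp.mapDomain_injective π.injective h1)

theorem permFI_surjective (π : Equiv.Perm (Fin (n + 1))) : Function.Surjective (permFI (d := d) π) := by
  intro β
  refine ⟨permFI π.symm β, ?_⟩
  apply Subtype.ext
  change Finsupp.mapDomain π (Finsupp.mapDomain π.symm β.1) = β.1
  rw [← Finsupp.mapDomain_comp]
  simp

theorem formOf_perm (π : Equiv.Perm (Fin (n + 1))) (γ : FI n d → Y) :
    rename π (formOf fun β => γ (permFI π β)) = formOf γ := by
  unfold formOf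
  rw [map_sum]
  simp_rw [rename_monomial]
  exact Fintype.sum_bijective (permFI π) ⟨permFI_injective π, permFI_surjective π⟩ _ _ fun β => rfl

end Lin

section Main

/-- Node H2 (from H1): a double line in a plane, on the generic hypersurface. -/
theorem exists_generic_conic (k : Type u) [Field k] [CharZero k] {n d : ℕ} (hd : 1 ≤ d) (hdn : d + 3 ≤ n)
    (hn : 2 ≤ n) :
    ∃ (Y : Type u) (_ : Field Y) (_ : Algebra k Y) (γ : FI n d → Y) (c : Fin 5 → Y) (φ : Fin (n + 1) → Fin 3 → Y),
      AlgebraicIndependent k γ ∧
      (∀ z : Y, IsAlgebraic (IntermediateField.adjoin k (Set.range γ)) z →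
        z ∈ IntermediateField.adjoin k (Set.range γ)) ∧
      del hn φ ≠ 0 ∧ qf c ∣ subF (RingHom.id Y) (formOf γ) φ := by
  classical
  obtain ⟨Y, iY, iA, γ, x, a, hγ, hcl, hxa, hline⟩ := K22.HLine.exists_generic_line k hd hdn
  let D : Fin (n + 1) → MvPolynomial (Fin 2) Y := fun l => aeval (ln x a) (pderiv l (formOf γ))
  have hD : ∀ l, (D l).IsHomogeneous (d - 1) := by
    intro l
    have := ((isHomogeneous_formOf γ).pderiv (i := l)).aeval _ (isHomogeneous_ln x a)
    rwa [one_mul] at this
  obtain ⟨b, hb, hbD⟩ := exists_third (by omega) x a hxa D hD hd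
  let φ : Fin (n + 1) → Fin 3 → Y := fun l => ![b l, x l, a l]
  have hφ : LinearIndependent Y fun i l => φ l i := by
    convert hb using 1
    ext i l
    fin_cases i <;> rfl
  obtain ⟨l, hl, hdet⟩ := exists_det3 φ hφ
  have hrow : Function.Injective (row3 hn) := by
    intro i j hij
    exact Fin.ext (congrArg Fin.val hij :)
  obtain ⟨π, hπ⟩ := Equiv.Perm.exists_extending_pair (row3 hn) l hrow hl
  let γ' : FI n d → Y := fun β => γ (permFI π β)
  have hrange : Set.range γ' = Set.range γ := (permFI_surjective π).range_comp γ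
  refine ⟨Y, iY, iA, γ', 0, fun l => φ (π l), hγ.comp _ (permFI_injective π), ?_, ?_, ?_⟩
  · rw [hrange]
    exact hcl
  · have h0 : del hn (fun l => φ (π l)) = det3 φ l := by
      unfold del det3
      congr 1
      ext i j
      simp only [Matrix.of_apply, hπ]
    rw [h0]
    exact hdet
  · have h1 : subF (RingHom.id Y) (formOf γ') (fun l => φ (π l)) = aeval (fun l => lin3 (φ l)) (formOf γ) := by
      rw [← formOf_perm π γ, aeval_rename]
      rfl
    have h2 : (qf (0 : Fin 5 → Y)) = X 0 ^ 2 := by simp [qf]
    rw [h1, h2]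
    let u : Fin (n + 1) → MvPolynomial (Fin 3) Y := fun l => rename Fin.succ (ln x a l)
    have h3 : (fun l => lin3 (φ l)) = fun l => u l + X 0 * C (b l) := by
      ext1 l
      simp only [lin3, φ, u, ln, Fin.sum_univ_three, map_add, map_mul, rename_C, rename_X]
      simp only [Matrix.cons_val_zero, Matrix.cons_val_one, Matrix.cons_val]
      change _ = C (x l) * X 1 + C (a l) * X 2 + X 0 * C (b l)
      ring
    have h4 := taylor u (fun l => C (b l)) (X 0) (formOf γ)
    have h5 : ∀ P : MvPolynomial (Fin (n + 1)) Y, aeval u P = rename Fin.succ (aeval (ln x a) P) := by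
      intro P
      have h6 : aeval u = (rename Fin.succ).comp (aeval (ln x a)) := by
        ext1 l
        simp [u]
      exact congr($h6 P)
    have h6 : ∑ i, C (b i) * aeval u (pderiv i (formOf γ)) = rename Fin.succ (∑ l, C (b l) * D l) := by
      rw [map_sum]
      refine Finset.sum_congr rfl fun l _ => ?_
      rw [h5, map_mul, rename_C]
    have h7 : aeval (ln x a) (formOf γ) = 0 := hline
    rw [h6, hbD, map_zero, mul_zero, sub_zero, h5, h7, map_zero, sub_zero] at h4
    rw [h3]
    exact h4

end Main

end K22.HCon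

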