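import Groth.Agent.S7200
import Mathlib.Algebra.MvPolynomial.Funext
import Mathlib.Algebra.CharZero.Infinite
import Mathlib.RingTheory.AlgebraicIndependent.AlgebraicClosure

/-!
# Generic linear combinations

* `option_sum`: `Σ g_i t_i` is transcendental over `F(t)` if the `t_i` are algebraically independent over `E ∋ g_i` and some
  `g_i` is transcendental over `F`;
* `mem_adjoin_step`: if `F` is algebraically closed in `E` then `F(t, Σ g_i t_i)` is algebraically closed in `E(t)`, provided
  that two of the `g_i` are algebraically independent over `F` (characteristic zero).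
-/

set_option autoImplicit false
universe u v w

open MvPolynomial

namespace K22.HTr

section Trans

variable {F : Type u} {E : Type v} {Ω : Type w} [Field F] [Infinite F] [Field E] [Field Ω] [Algebra F E]
  [Algebra E Ω] [Algebra F Ω] [IsScalarTower F E Ω] {ι : Type*} [Fintype ι]

omit [Fintype ι] in
/-- Two translates of a nonzero polynomial have a common non-zero. -/
theorem exists_eval_ne {κ : Type*} (P : MvPolynomial κ F) (hP : P ≠ 0) (δ : κ → F) :
    ∃ q : κ → F, eval q P ≠ 0 ∧ eval (fun i => q i + δ i) P ≠ 0 := by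
  have hex : ∀ Q : MvPolynomial κ F, Q ≠ 0 → ∃ q, eval q Q ≠ 0 := by
    intro Q hQ
    by_contra! h
    exact hQ (MvPolynomial.funext fun q => by rw [h q, map_zero])
  let P' : MvPolynomial κ F := aeval (fun i => X i + C (δ i)) P
  have hP' : ∀ q, eval q P' = eval (fun i => q i + δ i) P := by
    intro q
    have h1 : (aeval q : MvPolynomial κ F →ₐ[F] F).comp (aeval (fun i => X i + C (δ i))) =
        aeval (fun i => q i + δ i) := by
      ext i
      simp
    have h2 := congr($h1 P)
    rw [AlgHom.comp_apply] at h2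
    exact h2
  obtain ⟨q0, hq0⟩ := hex P hP
  have hP0 : P' ≠ 0 := by
    intro h0
    have h1 := hP' (fun i => q0 i - δ i)
    rw [h0, map_zero] at h1
    simp only [sub_add_cancel] at h1
    exact hq0 h1.symm
  obtain ⟨q, hq⟩ := hex (P * P') (mul_ne_zero hP hP0)
  rw [map_mul] at hq
  refine ⟨q, left_ne_zero_of_mul hq, ?_⟩
  rw [← hP']
  exact right_ne_zero_of_mul hq

/-- A generic linear combination is transcendental. -/
theorem option_sum (t : ι → Ω) (ht : AlgebraicIndependent E t) (g : ι → E) (i₀ : ι)
    (h₀ : Transcendental F (g i₀)) :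
    AlgebraicIndependent F (fun o : Option ι => o.elim (∑ i, algebraMap E Ω (g i) * t i) t) := by
  classical
  rw [algebraicIndependent_iff]
  intro P hP
  by_contra hP0
  -- the relation, in polynomials over `E`
  let Θ : MvPolynomial (Option ι) F →ₐ[F] MvPolynomial ι E :=
    aeval fun o => o.elim (∑ i, C (g i) * X i) X
  have h1 : Θ P = 0 := by
    apply (algebraicIndependent_iff.mp ht)
    have h2 : ((aeval t : MvPolynomial ι E →ₐ[E] Ω).restrictScalars F).comp Θ =
        aeval (fun o : Option ι => o.elim (∑ i, algebraMap E Ω (g i) * t i) t) := by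
      ext o
      cases o <;> simp [Θ]
    have h3 := congr($h2 P)
    rw [AlgHom.comp_apply] at h3
    exact h3.trans hP
  have h2 : ∀ p : ι → F, aeval (fun o : Option ι => o.elim (∑ i, g i * algebraMap F E (p i))
      fun i => algebraMap F E (p i)) P = 0 := by
    intro p
    have h3 : ((aeval (fun i => algebraMap F E (p i)) : MvPolynomial ι E →ₐ[E] E).restrictScalars F).comp Θ =
        aeval (fun o : Option ι => o.elim (∑ i, g i * algebraMap F E (p i)) fun i => algebraMap F E (p i)) := by
      ext o
      cases o <;> simp [Θ]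
    rw [← h3, AlgHom.comp_apply, h1, map_zero]
  -- algebraicity of the specializations
  have h3 : ∀ q : Option ι → F, eval q P ≠ 0 → IsAlgebraic F (∑ i, g i * algebraMap F E (q (some i))) := by
    intro q hq
    let τ : MvPolynomial (Option ι) F →ₐ[F] Polynomial F :=
      aeval fun o => o.elim Polynomial.X fun i => Polynomial.C (q (some i))
    refine ⟨τ P, ?_, ?_⟩
    · intro h0
      apply hq
      have h4 : (Polynomial.aeval (q none) : Polynomial F →ₐ[F] F).comp τ = aeval q := by
        ext o
        cases o <;> simp [τ]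
      have h5 := congr($h4 P)
      rw [AlgHom.comp_apply, h0, map_zero] at h5
      rw [← coe_aeval_eq_eval]
      exact h5.symm
    · have h4 : (Polynomial.aeval (∑ i, g i * algebraMap F E (q (some i))) : Polynomial F →ₐ[F] E).comp τ =
          aeval (fun o : Option ι => o.elim (∑ i, g i * algebraMap F E (q (some i)))
            fun i => algebraMap F E (q (some i))) := by
        ext o
        cases o <;> simp [τ]
      have h5 := congr($h4 P)
      rw [AlgHom.comp_apply] at h5
      rw [h5]
      exact h2 fun i => q (some i)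
  obtain ⟨q, hq1, hq2⟩ := exists_eval_ne P hP0 fun o => o.elim 0 (Pi.single (M := fun _ => F) i₀ 1)
  have h4 := (h3 _ hq2).sub (h3 _ hq1)
  apply h₀
  have h5 : ∑ i, g i * algebraMap F E (q (some i) + Pi.single (M := fun _ => F) i₀ 1 i) -
      ∑ i, g i * algebraMap F E (q (some i)) = g i₀ := by
    rw [← Finset.sum_sub_distrib]
    rw [Finset.sum_eq_single i₀]
    · simp
      ring
    · intro i _ hi
      simp [hi]
    · simp
  rw [← h5]
  exact h4

end Trans

section Step

theorem isAlgebraic_of_map {F Ω' Ω : Type*} [Field F] [Field Ω'] [Field Ω] [Algebra F Ω'] [Algebra F Ω]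
    (A : IntermediateField F Ω') (Φ : Ω' →ₐ[F] Ω) (w : Ω') (h : IsAlgebraic (A.map Φ) (Φ w)) :
    IsAlgebraic A w := by
  refine IsAlgebraic.of_ringHom_of_comp_eq (A.equivMap Φ) Φ h (A.equivMap Φ).surjective Φ.injective ?_
  ext a
  rfl

variable {F E Ω : Type u} [Field F] [CharZero F] [Field E] [Field Ω] [Algebra F E]
  [Algebra E Ω] [Algebra F Ω] [IsScalarTower F E Ω]

theorem sumElim_step {ι : Type*} [Fintype ι] (t : ι → Ω) (ht : AlgebraicIndependent E t) (g : ι → E) (i₁ i₂ : ι)
    (h1 : Transcendental F (g i₁)) (h2 : Transcendental (IntermediateField.adjoin F {g i₁}) (g i₂)) :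
    AlgebraicIndependent F (Sum.elim t ![∑ i, algebraMap E Ω (g i) * t i, algebraMap E Ω (g i₁)]) := by
  let F₁ := IntermediateField.adjoin F {g i₁}
  have : Infinite F := CharZero.infinite F
  have hinf : Infinite F₁ := Infinite.of_injective (algebraMap F F₁) (algebraMap F F₁).injective
  have h3 := option_sum (F := F₁) t ht g i₂ h2
  let y : F₁ := ⟨g i₁, IntermediateField.subset_adjoin F _ rfl⟩
  have h4 : AlgebraicIndependent F (fun _ : Fin 1 => y) := by
    rw [algebraicIndependent_unique_type_iff]
    intro h0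
    exact h1 (h0.algebraMap (A := E))
  have h5 := h4.sumElim_comp h3
  let e : ι ⊕ Fin 2 → Option ι ⊕ Fin 1 :=
    Sum.elim (fun i => Sum.inl (some i)) ![Sum.inl none, Sum.inr 0]
  have he : Function.Injective e := by
    rintro (i | i) (j | j) h
    · simpa [e] using h
    · fin_cases j <;> simp [e] at h
    · fin_cases i <;> simp [e] at h
    · fin_cases i <;> fin_cases j <;> simp [e] at h ⊢
  have h6 := h5.comp e he
  convert h6 using 1
  ext s
  rcases s with i | i
  · rfl
  · fin_cases i <;> rfl

open Groth.Agent.S7200 in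
theorem mem_adjoin_fin (hfg : (⊤ : IntermediateField F E).FG)
    (hcl : ∀ a : E, IsAlgebraic F a → a ∈ (algebraMap F E).range) (m : ℕ) (t : Fin (m + 1) → Ω)
    (ht : AlgebraicIndependent E t) (g : Fin (m + 1) → E) (i₁ i₂ : Fin (m + 1))
    (h1 : Transcendental F (g i₁)) (h2 : Transcendental (IntermediateField.adjoin F {g i₁}) (g i₂))
    (z : Ω) (hz : z ∈ IntermediateField.adjoin E (Set.range t))
    (halg : IsAlgebraic (IntermediateField.adjoin F (Set.range t ∪ {∑ i, algebraMap E Ω (g i) * t i})) z) :
    z ∈ IntermediateField.adjoin F (Set.range t ∪ {∑ i, algebraMap E Ω (g i) * t i}) := by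
  have hirr := Groth.Agent.Fdesc.GeomConnPoint.geometricallyIrreducible_spec_of_sepClosed_in F E
    fun a ha => hcl a ha.isIntegral.isAlgebraic
  have h3 := sumElim_step (F := F) (xv E m) (algInd_xv m) g i₁ i₂ h1 h2
  have h4 : ∑ i, (Pi.single i₁ 1 : Fin (m + 1) → F) i • g i = g i₁ := by
    rw [Finset.sum_eq_single i₁]
    · simp
    · intro i _ hi
      simp [hi]
    · simp
  have h5 := Groth.Agent.S7200.result hfg m g (Pi.single i₁ 1) (by rw [h4]; exact h3)
  let ξ₀ : Om E m := ∑ i, algebraMap E (Om E m) (g i) * xv E m i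
  let A₀ : IntermediateField F (Om E m) := IntermediateField.adjoin F (Set.range (xv E m) ∪ {ξ₀})
  have h6 : ∀ w : Om E m, IsAlgebraic A₀ w → w ∈ A₀ := by
    intro w hw
    obtain ⟨b, rfl⟩ := sepClosed_of_geometricallyIrreducible A₀ (Om E m) h5 w
      (minpoly.irreducible hw.isIntegral).separable
    exact b.2
  let Φ : Om E m →ₐ[E] Ω := (IntermediateField.val _).comp ht.aevalEquivField.toAlgHom
  have hΦx : ∀ i, Φ (xv E m i) = t i := by
    intro i
    change ((ht.aevalEquivField (algebraMap _ _ (X i)) : IntermediateField.adjoin E (Set.range t)) : Ω) = t i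
    rw [AlgebraicIndependent.aevalEquivField_algebraMap_apply_coe, aeval_X]
  have hΦξ : Φ ξ₀ = ∑ i, algebraMap E Ω (g i) * t i := by
    simp only [ξ₀, map_sum, map_mul, AlgHom.commutes, hΦx]
  have hmap : A₀.map (Φ.restrictScalars F) =
      IntermediateField.adjoin F (Set.range t ∪ {∑ i, algebraMap E Ω (g i) * t i}) := by
    rw [IntermediateField.adjoin_map]
    congr 1
    rw [Set.image_union, Set.image_singleton, ← Set.range_comp]
    congr 1
    · congr 1
      ext i
      exact hΦx i
    · rw [← hΦξ]
      rfl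
  obtain ⟨w, rfl⟩ : ∃ w, Φ w = z := by
    refine ⟨ht.aevalEquivField.symm ⟨z, hz⟩, ?_⟩
    change ((ht.aevalEquivField (ht.aevalEquivField.symm ⟨z, hz⟩) :
      IntermediateField.adjoin E (Set.range t)) : Ω) = z
    rw [AlgEquiv.apply_symm_apply]
  rw [← hmap] at halg ⊢
  exact ⟨w, h6 w (isAlgebraic_of_map A₀ (Φ.restrictScalars F) w halg), rfl⟩

/-- The step lemma. -/
theorem mem_adjoin_step (hfg : (⊤ : IntermediateField F E).FG)
    (hcl : ∀ a : E, IsAlgebraic F a → a ∈ (algebraMap F E).range) {ι : Type*} [Fintype ι] (t : ι → Ω)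
    (ht : AlgebraicIndependent E t) (g : ι → E) (i₁ i₂ : ι)
    (h1 : Transcendental F (g i₁)) (h2 : Transcendental (IntermediateField.adjoin F {g i₁}) (g i₂))
    (z : Ω) (hz : z ∈ IntermediateField.adjoin E (Set.range t))
    (halg : IsAlgebraic (IntermediateField.adjoin F (Set.range t ∪ {∑ i, algebraMap E Ω (g i) * t i})) z) :
    z ∈ IntermediateField.adjoin F (Set.range t ∪ {∑ i, algebraMap E Ω (g i) * t i}) := by
  obtain ⟨m, hm⟩ : ∃ m, Fintype.card ι = m + 1 := Nat.exists_eq_succ_of_ne_zero (Fintype.card_pos_iff.mpr ⟨i₁⟩).ne'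
  let e : ι ≃ Fin (m + 1) := (Fintype.equivFin ι).trans (finCongr hm)
  have hr : Set.range (t ∘ e.symm) = Set.range t := e.symm.surjective.range_comp t
  have hs : ∑ i, algebraMap E Ω ((g ∘ e.symm) i) * (t ∘ e.symm) i = ∑ i, algebraMap E Ω (g i) * t i :=
    Fintype.sum_equiv e.symm _ _ fun _ => rfl
  have h3 := mem_adjoin_fin hfg hcl m (t ∘ e.symm) (ht.comp _ e.symm.injective) (g ∘ e.symm) (e i₁) (e i₂)
    (by rw [Function.comp_apply, e.symm_apply_apply]; exact h1)
    (by rw [Function.comp_apply, Function.comp_apply, e.symm_apply_apply, e.symm_apply_apply]; exact h2) z (by rw [hr]; exact hz) (by rw [hr, hs]; exact halg)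
  rwa [hr, hs] at h3

end Step

section Card

open Cardinal in
/-- A family generating the same field as an algebraically independent family with the same finite index is algebraically
independent. -/
theorem algebraicIndependent_of_mem_adjoin {L : Type u} {Y : Type v} [Field L] [Field Y] [Algebra L Y] {κ : Type w}
    [Finite κ] (h t : κ → Y) (hh : AlgebraicIndependent L h)
    (hle : ∀ i, h i ∈ IntermediateField.adjoin L (Set.range t)) : AlgebraicIndependent L t := by
  let A := IntermediateField.adjoin L (Set.range t)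
  let h' : κ → A := fun i => ⟨h i, hle i⟩
  let t' : κ → A := fun i => ⟨t i, IntermediateField.subset_adjoin L _ ⟨i, rfl⟩⟩
  have hh' : AlgebraicIndependent L h' := AlgebraicIndependent.of_comp A.val hh
  have halg : Algebra.IsAlgebraic (Algebra.adjoin L (Set.range t')) A := by
    constructor
    intro a
    obtain ⟨r, s, hrs⟩ := (IntermediateField.mem_adjoin_range_iff L t a.1).mp a.2
    have h1 : ∀ p : MvPolynomial κ L, aeval t' p ∈ Algebra.adjoin L (Set.range t') := by
      intro p
      rw [Algebra.adjoin_range_eq_range_aeval]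
      exact ⟨p, rfl⟩
    have h2 : ∀ p : MvPolynomial κ L, ((aeval t' p : A) : Y) = aeval t p := by
      intro p
      exact (aeval_algebraMap_apply (B := Y) t' p).symm
    have h3 : a = aeval t' r * (aeval t' s)⁻¹ := by
      apply Subtype.ext
      rw [hrs, div_eq_mul_inv, MulMemClass.coe_mul, h2]
      congr 1
      rw [← h2]
      rfl
    rw [h3]
    exact (isAlgebraic_algebraMap (⟨_, h1 r⟩ : Algebra.adjoin L (Set.range t'))).mul
      (isAlgebraic_algebraMap (⟨_, h1 s⟩ : Algebra.adjoin L (Set.range t'))).inv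
  have h4 : IsTranscendenceBasis L t' :=
    Algebra.IsAlgebraic.isTranscendenceBasis_of_lift_le_trdeg_of_finite L t' hh'.lift_cardinalMk_le_trdeg
  exact h4.1.map' (f := A.val) A.val.injective

/-- A purely transcendental extension contains no new algebraic elements. -/
theorem mem_range_of_isAlgebraic {L : Type u} {Y : Type v} [Field L] [Field Y] [Algebra L Y] {κ : Type w}
    (t : κ → Y) (ht : AlgebraicIndependent L t) (z : Y) (hz : z ∈ IntermediateField.adjoin L (Set.range t))
    (halg : IsAlgebraic L z) : z ∈ (algebraMap L Y).range := by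
  obtain ⟨r, s, hrs⟩ := (IntermediateField.mem_adjoin_range_iff L t z).mp hz
  by_cases hs : aeval t s = 0
  · rw [hs, div_zero] at hrs
    rw [hrs]
    exact zero_mem _
  have hs0 : s ≠ 0 := by
    rintro rfl
    exact hs (map_zero _)
  obtain ⟨m, hm⟩ := MvPolynomial.exists_coeff_ne_zero hs0
  let C' := algebraicClosure L Y
  let z' : C' := ⟨z, mem_algebraicClosure_iff.mpr halg⟩
  have h1 : (C z' * s.map (algebraMap L C') - r.map (algebraMap L C') : MvPolynomial κ C') = 0 := by
    apply algebraicIndependent_iff.mp ht.algebraicClosure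
    rw [map_sub, map_mul, aeval_map_algebraMap, aeval_map_algebraMap, aeval_C, sub_eq_zero]
    change z * _ = _
    rw [hrs, div_mul_cancel₀ _ hs]
  have h2 := congrArg (coeff m) h1
  rw [coeff_sub, coeff_C_mul, coeff_map, coeff_map, coeff_zero, sub_eq_zero] at h2
  have h3 : z * algebraMap L Y (coeff m s) = algebraMap L Y (coeff m r) := congrArg Subtype.val h2
  refine ⟨coeff m r / coeff m s, ?_⟩
  rw [map_div₀, ← h3, mul_div_cancel_right₀]
  exact (map_ne_zero _).mpr hm

theorem neg_indep {L Y κ : Type*} [Field L] [Field Y] [Algebra L Y] {x : κ → Y} (h : AlgebraicIndependent L x) :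
    AlgebraicIndependent L (fun i => - x i) := by
  have h1 : AlgebraicIndependent L (fun i => (- X i : MvPolynomial κ L)) := by
    refine Function.LeftInverse.injective (g := aeval fun i => (- X i : MvPolynomial κ L)) fun p => ?_
    have h2 : (aeval fun i => (- X i : MvPolynomial κ L)).comp (aeval fun i => (- X i : MvPolynomial κ L)) =
        AlgHom.id L _ := by
      ext1 i
      simp
    exact congr($h2 p)
  have h3 := h.aeval_of_algebraicIndependent h1
  simpa using h3

end Card

section Inter

variable {k Y : Type u} [Field k] [Field Y] [Algebra k Y]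

theorem mem_adjoin_adjoin_iff (S U : Set Y) (z : Y) :
    z ∈ IntermediateField.adjoin (IntermediateField.adjoin k S) U ↔ z ∈ IntermediateField.adjoin k (S ∪ U) := by
  rw [← IntermediateField.mem_restrictScalars k, IntermediateField.adjoin_adjoin_left]

theorem isAlgebraic_adjoin_adjoin_iff (S U : Set Y) (z : Y) :
    IsAlgebraic (IntermediateField.adjoin (IntermediateField.adjoin k S) U) z ↔
      IsAlgebraic (IntermediateField.adjoin k (S ∪ U)) z := by
  rw [← IntermediateField.adjoin_adjoin_left]
  exact Iff.rfl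

theorem mem_of_isAlgebraic_adjoin {S : Set Y} {ι : Type*} (t : ι → Y)
    (ht : AlgebraicIndependent (IntermediateField.adjoin k S) t) (z : Y)
    (hz : z ∈ IntermediateField.adjoin k (S ∪ Set.range t))
    (halg : IsAlgebraic (IntermediateField.adjoin k S) z) : z ∈ IntermediateField.adjoin k S := by
  obtain ⟨b, rfl⟩ := mem_range_of_isAlgebraic t ht z ((mem_adjoin_adjoin_iff _ _ _).mpr hz) halg
  exact b.2

open scoped IntermediateField.algebraAdjoinAdjoin in
/-- Parts of an algebraically independent family. -/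
theorem adjoin_of_disjoint {ι : Type*} {W : ι → Y} {s u v : Set ι} (h : AlgebraicIndepOn k W s) (hu : u ⊆ s)
    (hv : v ⊆ s) (hd : Disjoint u v) :
    AlgebraicIndependent (IntermediateField.adjoin k (W '' u)) (fun i : v => W i) := by
  let e : v ⊕ u → s := Sum.elim (fun i => ⟨i.1, hv i.2⟩) (fun i => ⟨i.1, hu i.2⟩)
  have he : Function.Injective e := by
    rintro (⟨i, hi⟩ | ⟨i, hi⟩) (⟨j, hj⟩ | ⟨j, hj⟩) hij
    · have : i = j := congrArg Subtype.val hij
      subst this
      rfl
    · have : i = j := congrArg Subtype.val hij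
      subst this
      exact absurd hi (Set.disjoint_left.mp hd hj)
    · have : i = j := congrArg Subtype.val hij
      subst this
      exact absurd hj (Set.disjoint_left.mp hd hi)
    · have : i = j := congrArg Subtype.val hij
      subst this
      rfl
  have h1 : AlgebraicIndependent k (Sum.elim (fun i : v => W i) (fun i : u => W i)) := by
    have h2 := AlgebraicIndependent.comp h e he
    convert h2 using 1
    ext (i | i) <;> rfl
  have h2 := (AlgebraicIndependent.sumElim_iff.mp h1).2
  rw [← Set.image_eq_range] at h2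
  exact (Algebra.IsAlgebraic.algebraicIndependent_iff (Algebra.adjoin k (W '' u))
    (IntermediateField.adjoin k (W '' u))).mp h2

/-- Algebraic independence in a tower. -/
theorem indepOn_of_sum {ι : Type*} {W : ι → Y} {u s : Set ι} {κ : Type*} (y : κ → Y)
    (hu : AlgebraicIndepOn k W u)
    (hy : AlgebraicIndependent (IntermediateField.adjoin k (W '' u)) y) (f : ι → κ)
    (hf : ∀ i ∈ s, i ∉ u → y (f i) = W i) (hinj : ∀ i ∈ s, ∀ j ∈ s, i ∉ u → j ∉ u → f i = f j → i = j) :
    AlgebraicIndepOn k W s := by
  classical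
  have h1 : AlgebraicIndependent k (Sum.elim y fun i : u => W i) := by
    refine AlgebraicIndependent.sumElim_of_tower (S := IntermediateField.adjoin k (W '' u)) hu ?_ hy
    rintro _ ⟨i, rfl⟩
    exact ⟨⟨W i, IntermediateField.subset_adjoin k _ ⟨i.1, i.2, rfl⟩⟩, rfl⟩
  let e : s → κ ⊕ u := fun i => if h : i.1 ∈ u then Sum.inr ⟨i.1, h⟩ else Sum.inl (f i)
  have he : Function.Injective e := by
    rintro ⟨i, hi⟩ ⟨j, hj⟩ hij
    apply Subtype.ext
    by_cases h1 : i ∈ u <;> by_cases h2 : j ∈ u
    · simpa [e, h1, h2] using hij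
    · simp [e, h1, h2] at hij
    · simp [e, h1, h2] at hij
    · simp only [e, h1, h2, dif_neg, not_false_eq_true, Sum.inl.injEq] at hij
      exact hinj i hi j hj h1 h2 hij
  have h2 := h1.comp e he
  refine (algebraicIndependent_equiv' (Equiv.refl _) ?_).mp h2
  ext ⟨i, hi⟩
  by_cases h3 : i ∈ u
  · simp [e, h3]
  · simp [e, h3, hf i hi h3]

open IntermediateField in
theorem option_sum' [CharZero k] {S T : Set Y} (hST : S ⊆ adjoin k T) {ι : Type*} [Fintype ι] (t : ι → Y)
    (ht : AlgebraicIndependent (adjoin k T) t) (g : ι → Y) (hg : ∀ i, g i ∈ adjoin k T) (i₀ : ι)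
    (h₀ : Transcendental (adjoin k S) (g i₀)) :
    AlgebraicIndependent (adjoin k S) (fun o : Option ι => o.elim (∑ i, g i * t i) t) := by
  have hle : adjoin k S ≤ adjoin k T := adjoin_le_iff.mpr hST
  let _ : Algebra (adjoin k S) (adjoin k T) := (inclusion hle).toRingHom.toAlgebra
  have : IsScalarTower (adjoin k S) (adjoin k T) Y := .of_algebraMap_eq fun _ => rfl
  have : Infinite k := CharZero.infinite k
  have : Infinite (adjoin k S) := Infinite.of_injective (algebraMap k _) (algebraMap k _).injective
  have h1 := option_sum (F := adjoin k S) (E := adjoin k T) t ht (fun i => ⟨g i, hg i⟩) i₀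
    (fun h => h₀ (h.algebraMap (A := Y)))
  exact h1

open IntermediateField in
theorem mem_step' [CharZero k] {S T : Set Y} (hST : S ⊆ adjoin k T) (hT : T.Finite)
    (hcl : ∀ a ∈ adjoin k T, IsAlgebraic (adjoin k S) a → a ∈ adjoin k S) {ι : Type*} [Fintype ι] (t : ι → Y)
    (ht : AlgebraicIndependent (adjoin k T) t) (g : ι → Y) (hg : ∀ i, g i ∈ adjoin k T) (i₁ i₂ : ι)
    (h12 : AlgebraicIndependent (adjoin k S) ![g i₁, g i₂]) (z : Y)
    (hz : z ∈ adjoin k (T ∪ Set.range t))
    (halg : IsAlgebraic (adjoin k (S ∪ (Set.range t ∪ {∑ i, g i * t i}))) z) :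
    z ∈ adjoin k (S ∪ (Set.range t ∪ {∑ i, g i * t i})) := by
  have hle : adjoin k S ≤ adjoin k T := adjoin_le_iff.mpr hST
  let _ : Algebra (adjoin k S) (adjoin k T) := (inclusion hle).toRingHom.toAlgebra
  have hsc : IsScalarTower (adjoin k S) (adjoin k T) Y := .of_algebraMap_eq fun _ => rfl
  have hsk : IsScalarTower k (adjoin k S) (adjoin k T) := .of_algebraMap_eq fun _ => rfl
  have e1 : Algebra.EssFiniteType k (adjoin k T) := essFiniteType_iff.mpr (fg_adjoin_of_finite hT)
  have e2 : Algebra.EssFiniteType (adjoin k S) (adjoin k T) := .of_comp k _ _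
  let g' : ι → adjoin k T := fun i => ⟨g i, hg i⟩
  have hind' : AlgebraicIndependent (adjoin k S) ![g' i₁, g' i₂] := by
    refine AlgebraicIndependent.of_comp (IsScalarTower.toAlgHom (adjoin k S) (adjoin k T) Y) ?_
    convert h12 using 1
    ext i
    fin_cases i <;> rfl
  have h1 : Transcendental (adjoin k S) (g' i₁) := hind'.transcendental 0
  have h2 : Transcendental (adjoin (adjoin k S) {g' i₁}) (g' i₂) :=
    Groth.Agent.FlatMor.K251.SepCl.transcendental_of_pair hind'
  have h3 := mem_adjoin_step (F := adjoin k S) (E := adjoin k T) (fg_top_iff.mpr e2)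
    (fun a ha => ⟨⟨a.1, hcl a.1 a.2 (ha.algebraMap (A := Y))⟩, rfl⟩) t ht g' i₁ i₂ h1 h2 z
  have h4 : ∀ i, algebraMap (adjoin k T) Y (g' i) * t i = g i * t i := fun _ => rfl
  simp only [h4] at h3
  rw [mem_adjoin_adjoin_iff, mem_adjoin_adjoin_iff, isAlgebraic_adjoin_adjoin_iff] at h3
  exact h3 hz halg

end Inter

end K22.HTr
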