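import Groth.Agent.Fano.K22.HSub
import Groth.Agent.Fano.K22.HTr

/-!
# The generic pointed line on the generic hypersurface
-/

set_option autoImplicit false

universe u v

open MvPolynomial

namespace K22.HFld

open K745.HDef W4swstmapratcurves Groth.Agent.Lefpen.H701 K22.HSub K22.HTr

section Exponents

variable {n d : ℕ}

/-- The exponents of the free coefficients. -/
def Free (β : FI n d) : Prop := β.1 0 + β.1 (Fin.last n) ≠ d

theorem degree_eq_sum (β : FI n d) : ∑ i, β.1 i = d := by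
  rw [← Finsupp.degree_eq_sum]
  exact β.2

theorem zero_ne_last (hn : 1 ≤ n) : (0 : Fin (n + 1)) ≠ Fin.last n := by
  intro h
  have := congrArg Fin.val h
  simp at this
  omega

theorem add_le (hn : 1 ≤ n) (β : FI n d) : β.1 0 + β.1 (Fin.last n) ≤ d := by
  classical
  have h1 : ∑ j ∈ ({0, Fin.last n} : Finset (Fin (n + 1))), β.1 j ≤ ∑ j, β.1 j :=
    Finset.sum_le_sum_of_subset (Finset.subset_univ _)
  rwa [degree_eq_sum, Finset.sum_pair (zero_ne_last hn)] at h1

theorem apply_eq_zero (hn : 1 ≤ n) (β : FI n d) (hβ : ¬ Free β) (i : Fin (n + 1)) (h0 : i ≠ 0)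
    (hl : i ≠ Fin.last n) : β.1 i = 0 := by
  classical
  have h1 : β.1 0 + β.1 (Fin.last n) = d := not_not.mp hβ
  have h2 : ∑ j ∈ ({0, Fin.last n, i} : Finset (Fin (n + 1))), β.1 j ≤ ∑ j, β.1 j :=
    Finset.sum_le_sum_of_subset (Finset.subset_univ _)
  rw [degree_eq_sum, Finset.sum_insert (by simp [zero_ne_last hn, h0.symm]), Finset.sum_pair hl.symm] at h2
  omega

theorem eq_of_not_free (hn : 1 ≤ n) (β β' : FI n d) (hβ : ¬ Free β) (hβ' : ¬ Free β') (h : β.1 0 = β'.1 0) :
    β = β' := by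
  apply Subtype.ext
  ext i
  by_cases h0 : i = 0
  · rw [h0, h]
  by_cases hl : i = Fin.last n
  · have h1 : β.1 0 + β.1 (Fin.last n) = d := not_not.mp hβ
    have h2 : β'.1 0 + β'.1 (Fin.last n) = d := not_not.mp hβ'
    rw [hl]
    omega
  · rw [apply_eq_zero hn β hβ i h0 hl, apply_eq_zero hn β' hβ' i h0 hl]

/-- The exponent `X_0^{d - j - 1} X_n^{j+1}`. -/
noncomputable def topx (n d j : ℕ) (hj : j + 1 ≤ d) : FI n d :=
  ⟨Finsupp.single 0 (d - j - 1) + Finsupp.single (Fin.last n) (j + 1), by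
    rw [map_add, Finsupp.degree_single, Finsupp.degree_single]
    omega⟩

/-- The exponent `X_0^{d - j - 1} X_n^j X_i`. -/
noncomputable def ex (n d j : ℕ) (hj : j + 1 ≤ d) (i : Fin (n + 1)) : FI n d :=
  ⟨Finsupp.single 0 (d - j - 1) + Finsupp.single (Fin.last n) j + Finsupp.single i 1, by
    rw [map_add, map_add, Finsupp.degree_single, Finsupp.degree_single, Finsupp.degree_single]
    omega⟩

theorem topx_zero (hn : 1 ≤ n) (j : ℕ) (hj : j + 1 ≤ d) : (topx n d j hj).1 0 = d - j - 1 := by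
  simp [topx, (zero_ne_last hn).symm]

theorem not_free_topx (hn : 1 ≤ n) (j : ℕ) (hj : j + 1 ≤ d) : ¬ Free (topx n d j hj) := by
  unfold Free
  rw [topx_zero hn]
  simp [topx, zero_ne_last hn]
  omega

theorem ex_zero (hn : 1 ≤ n) (j : ℕ) (hj : j + 1 ≤ d) (i : Fin (n + 1)) (hi : i ≠ 0) :
    (ex n d j hj i).1 0 = d - j - 1 := by
  simp [ex, (zero_ne_last hn).symm, hi]

theorem free_ex (hn : 1 ≤ n) (j : ℕ) (hj : j + 1 ≤ d) (i : Fin (n + 1)) (h0 : i ≠ 0) (hl : i ≠ Fin.last n) :
    Free (ex n d j hj i) := by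
  unfold Free
  rw [ex_zero hn j hj i h0]
  simp [ex, zero_ne_last hn, hl]
  omega

end Exponents

section Setup

variable {n d : ℕ}

/-- The indices of the coordinates of `x`, of `a`, and of the coefficients. -/
abbrev Idx (n d : ℕ) : Type := Fin (n + 1) ⊕ (Fin (n + 1) ⊕ FI n d)

/-- The variables of the field `B_j`. -/
def VU (n d j : ℕ) : Set (Idx n d) :=
  {s | Sum.elim (fun i => i ≠ 0) (Sum.elim (fun i => i ≠ 0 ∧ i ≠ Fin.last n) fun β => Free β ∧ d ≤ β.1 0 + j) s}

/-- The generators of the field `A_j`. -/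
def SA (n d j : ℕ) : Set (Idx n d) :=
  {s | Sum.elim (fun i => i ≠ 0) (Sum.elim (fun _ => False) fun β => β.1 0 ≠ d ∧ d ≤ β.1 0 + j) s}

/-- Another transcendence basis of the field `B_j` (for `j ≤ n - 1`). -/
def SV (n d j : ℕ) : Set (Idx n d) :=
  {s | Sum.elim (fun i => i ≠ 0) (Sum.elim (fun i => i ≠ 0 ∧ i.val + j + 1 ≤ n)
    fun β => β.1 0 ≠ d ∧ d ≤ β.1 0 + j) s}

variable {Y : Type v} [Field Y] (w : Idx n d → Y)

/-- The point of the line. -/
def xx (i : Fin (n + 1)) : Y := if i = 0 then 1 else w (Sum.inl i)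

/-- The direction of the line. -/
def aa (i : Fin (n + 1)) : Y := if i = 0 then 0 else if i = Fin.last n then 1 else w (Sum.inr (Sum.inl i))

/-- The monomials in `a_1, …, a_n`. -/
def am (β : Fin (n + 1) →₀ ℕ) : Y := ∏ i, (if i = 0 then 1 else aa w i) ^ β i

open Classical in
/-- The coefficients. -/
noncomputable def hh (β : FI n d) : Y :=
  if Free β then w (Sum.inr (Sum.inr β)) else if β.1 0 = d then 0 else
    -∑ β' ∈ Finset.univ.filter (fun β' : FI n d => Free β' ∧ β'.1 0 = β.1 0), w (Sum.inr (Sum.inr β')) * am w β'.1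

/-- The family of all elements. -/
noncomputable def WW : Idx n d → Y := Sum.elim (xx w) (Sum.elim (aa w) (hh w))

theorem WW_eq (j : ℕ) (s : Idx n d) (hs : s ∈ VU n d j) : WW w s = w s := by
  rcases s with i | i | β
  · exact if_neg hs
  · have h1 : i ≠ 0 ∧ i ≠ Fin.last n := hs
    simp [WW, aa, h1.1, h1.2]
  · have h1 : Free β ∧ d ≤ β.1 0 + j := hs
    simp [WW, hh, h1.1]

theorem am_eq_one (hn : 1 ≤ n) (β : FI n d) (hβ : ¬ Free β) : am w β.1 = 1 := by
  unfold am
  refine Finset.prod_eq_one fun i _ => ?_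
  by_cases h0 : i = 0
  · simp [h0]
  by_cases hl : i = Fin.last n
  · simp [hl, aa, (zero_ne_last hn).symm]
  · simp [h0, apply_eq_zero hn β hβ i h0 hl]

theorem am_ex (j : ℕ) (hj : j + 1 ≤ d) (i : Fin (n + 1)) (h0 : i ≠ 0) (hl : i ≠ Fin.last n) :
    am w (ex n d j hj i).1 = aa w i := by
  classical
  unfold am
  rw [Finset.prod_eq_single i]
  · simp [h0, ex, hl]
  · intro i' _ hi'
    by_cases h0' : i' = 0
    · simp [h0']
    by_cases hl' : i' = Fin.last n
    · subst hl'
      simp [h0', aa]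
    · have h1 : (ex n d j hj i).1 i' = 0 := by
        simp [ex, Ne.symm h0', Ne.symm hl', Ne.symm hi']
      simp [h1]
  · simp

open Classical in
theorem hh_of_not_free (β : FI n d) (hβ : ¬ Free β) (h0 : β.1 0 ≠ d) : hh w β =
    -∑ β' ∈ Finset.univ.filter (fun β' : FI n d => Free β' ∧ β'.1 0 = β.1 0),
      w (Sum.inr (Sum.inr β')) * am w β'.1 := by
  unfold hh
  rw [if_neg hβ, if_neg h0]

theorem hh_of_eq (hn : 1 ≤ n) (β : FI n d) (h0 : β.1 0 = d) : hh w β = 0 := by
  have h1 : ¬ Free β := by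
    have := add_le hn β
    unfold Free
    omega
  unfold hh
  rw [if_neg h1, if_pos h0]

/-- The equations of the line. -/
theorem rel (hn : 1 ≤ n) (e : ℕ) (he : e ≤ d) :
    ∑ β ∈ Finset.univ.filter (fun β : FI n d => β.1 0 = e), hh w β * am w β.1 = 0 := by
  classical
  rcases he.eq_or_lt with rfl | he
  · refine Finset.sum_eq_zero fun β hβ => ?_
    rw [Finset.mem_filter] at hβ
    rw [hh_of_eq w hn β hβ.2, zero_mul]
  rw [← Finset.sum_filter_add_sum_filter_not _ (fun β => Free β)]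
  obtain ⟨j, hj, rfl⟩ : ∃ j, ∃ _ : j + 1 ≤ d, e = d - j - 1 := ⟨d - e - 1, by omega, by omega⟩
  have h1 : (Finset.univ.filter (fun β : FI n d => β.1 0 = d - j - 1)).filter (fun β => ¬ Free β) =
      {topx n d j hj} := by
    ext β
    simp only [Finset.mem_filter, Finset.mem_univ, true_and, Finset.mem_singleton]
    constructor
    · rintro ⟨h1, h2⟩
      exact eq_of_not_free hn _ _ h2 (not_free_topx hn j hj) (by rw [h1, topx_zero hn])
    · rintro rfl
      exact ⟨topx_zero hn j hj, not_free_topx hn j hj⟩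
  rw [h1, Finset.sum_singleton, am_eq_one w hn _ (not_free_topx hn j hj), mul_one,
    hh_of_not_free w _ (not_free_topx hn j hj) (by rw [topx_zero hn]; omega), ← sub_eq_add_neg, sub_eq_zero]
  rw [Finset.filter_filter]
  refine Finset.sum_congr ?_ ?_
  · ext β
    simp only [Finset.mem_filter, Finset.mem_univ, true_and, topx_zero hn]
    tauto
  · intro β hβ
    rw [Finset.mem_filter] at hβ
    rw [hh, if_pos hβ.2.1]

end Setup

section Fields

open IntermediateField

variable {k : Type u} [Field k] {Y : Type u} [Field Y] [Algebra k Y] {n d : ℕ} (w : Idx n d → Y)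

theorem xx_mem (s : Set (Idx n d)) (hs : ∀ i : Fin (n + 1), i ≠ 0 → Sum.inl i ∈ s) (i : Fin (n + 1)) :
    xx w i ∈ adjoin k (WW w '' s) := by
  by_cases hi : i = 0
  · rw [xx, if_pos hi]
    exact one_mem _
  · exact subset_adjoin k _ ⟨Sum.inl i, hs i hi, rfl⟩

theorem aa_mem (j : ℕ) (i : Fin (n + 1)) : aa w i ∈ adjoin k (WW w '' VU n d j) := by
  by_cases h0 : i = 0
  · rw [aa, if_pos h0]
    exact zero_mem _
  by_cases hl : i = Fin.last n
  · rw [aa, if_neg h0, if_pos hl]
    exact one_mem _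
  · exact subset_adjoin k _ ⟨Sum.inr (Sum.inl i), ⟨h0, hl⟩, rfl⟩

theorem am_mem (j : ℕ) (β : Fin (n + 1) →₀ ℕ) : am w β ∈ adjoin k (WW w '' VU n d j) := by
  unfold am
  refine prod_mem fun i _ => pow_mem ?_ _
  split_ifs
  · exact one_mem _
  · exact aa_mem w j i

theorem hh_mem (hn : 1 ≤ n) (j : ℕ) (β : FI n d) (hβ : d ≤ β.1 0 + j) : hh w β ∈ adjoin k (WW w '' VU n d j) := by
  classical
  by_cases hf : Free β
  · exact subset_adjoin k _ ⟨Sum.inr (Sum.inr β), ⟨hf, hβ⟩, rfl⟩
  by_cases h0 : β.1 0 = d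
  · rw [hh_of_eq w hn β h0]
    exact zero_mem _
  rw [hh_of_not_free w β hf h0]
  refine neg_mem (sum_mem fun β' hβ' => mul_mem ?_ (am_mem w j _))
  rw [Finset.mem_filter] at hβ'
  have h1 : Sum.inr (Sum.inr β') ∈ VU n d j := ⟨hβ'.2.1, by rw [hβ'.2.2]; exact hβ⟩
  rw [← WW_eq w j _ h1]
  exact subset_adjoin k _ ⟨_, h1, rfl⟩

theorem VU_mono {i j : ℕ} (h : i ≤ j) : VU n d i ⊆ VU n d j := by
  rintro (s | s | s) hs
  · exact hs
  · exact hs
  · exact ⟨hs.1, hs.2.trans (by omega)⟩

theorem image_SV_subset (hn : 1 ≤ n) (j : ℕ) : WW w '' SV n d j ⊆ adjoin k (WW w '' VU n d j) := by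
  rintro _ ⟨i | i | β, hs, rfl⟩
  · exact xx_mem w _ (fun i hi => hi) i
  · exact aa_mem w j i
  · exact hh_mem w hn j β hs.2

theorem SA_subset_SV (j : ℕ) : SA n d j ⊆ SV n d j := by
  rintro (i | i | β) hs
  · exact hs
  · exact hs.elim
  · exact hs

/-- The new free coefficients. -/
abbrev TT (n d j : ℕ) : Type := {β : FI n d // Free β ∧ β.1 0 + j + 1 = d}

noncomputable instance (j : ℕ) : Fintype (TT n d j) := by
  classical exact inferInstance

theorem hh_topx (hn : 1 ≤ n) (j : ℕ) (hj : j + 1 ≤ d) :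
    hh w (topx n d j hj) = ∑ β : TT n d j, (- am w β.1.1) * hh w β.1 := by
  classical
  rw [hh_of_not_free w _ (not_free_topx hn j hj) (by rw [topx_zero hn]; omega), ← Finset.sum_neg_distrib,
    Finset.sum_subtype (p := fun β : FI n d => Free β ∧ β.1 0 + j + 1 = d)]
  · refine Finset.sum_congr (by congr!) fun β _ => ?_
    rw [hh, if_pos β.2.1]
    ring
  · intro β
    simp only [Finset.mem_filter, Finset.mem_univ, true_and, topx_zero hn]
    constructor
    · rintro ⟨h1, h2⟩
      exact ⟨h1, by omega⟩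
    · rintro ⟨h1, h2⟩
      exact ⟨h1, by omega⟩

theorem indep_TT (hw : AlgebraicIndepOn k (WW w) (VU n d d)) (j : ℕ) (hj : j + 1 ≤ d) :
    AlgebraicIndependent (adjoin k (WW w '' VU n d j)) (fun β : TT n d j => hh w β.1) := by
  let v : Set (Idx n d) := Set.range fun β : TT n d j => Sum.inr (Sum.inr β.1)
  have h1 : v ⊆ VU n d d := by
    rintro _ ⟨β, rfl⟩
    exact ⟨β.2.1, by omega⟩
  have h2 : Disjoint (VU n d j) v := by
    rw [Set.disjoint_left]
    rintro _ hs ⟨β, rfl⟩
    have h3 : d ≤ β.1.1 0 + j := hs.2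
    have h4 := β.2.2
    omega
  have h3 := adjoin_of_disjoint hw (VU_mono (by omega : j ≤ d)) h1 h2
  exact h3.comp (fun β : TT n d j => (⟨_, β, rfl⟩ : v)) fun β β' h => by
    have := congrArg Subtype.val h
    simp only [Sum.inr.injEq] at this
    exact Subtype.ext this

variable [CharZero k]

theorem indep_SV_succ (hn : d + 3 ≤ n) (hw : AlgebraicIndepOn k (WW w) (VU n d d)) (j : ℕ) (hj : j + 1 ≤ d)
    (h : AlgebraicIndepOn k (WW w) (SV n d j)) : AlgebraicIndepOn k (WW w) (SV n d (j + 1)) := by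
  classical
  have hn1 : 1 ≤ n := by omega
  let im : Fin (n + 1) := ⟨n - j - 1, by omega⟩
  have him0 : im ≠ 0 := by
    intro h0
    have := congrArg Fin.val h0
    simp [im] at this
    omega
  have himl : im ≠ Fin.last n := by
    intro h0
    have := congrArg Fin.val h0
    simp [im] at this
    omega
  have himS : (Sum.inr (Sum.inl im) : Idx n d) ∈ SV n d j := ⟨him0, by simp [im]; omega⟩
  let u : Set (Idx n d) := SV n d j \ {Sum.inr (Sum.inl im)}
  have h1 : AlgebraicIndependent (adjoin k (WW w '' u))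
      (fun i : ({Sum.inr (Sum.inl im)} : Set (Idx n d)) => WW w i) :=
    adjoin_of_disjoint h Set.sdiff_subset (by simpa using himS) Set.disjoint_sdiff_left
  have h2 : Transcendental (adjoin k (WW w '' u)) (- am w (ex n d j hj im).1) := by
    rw [am_ex w j hj im him0 himl]
    intro h0
    have h3 := h0.neg
    rw [neg_neg] at h3
    exact h1.transcendental ⟨_, rfl⟩ h3
  have h3 := option_sum' (S := WW w '' u) (T := WW w '' VU n d j)
    ((Set.image_mono Set.sdiff_subset).trans (image_SV_subset w hn1 j)) (fun β : TT n d j => hh w β.1)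
    (indep_TT w hw j hj) (fun β => - am w β.1.1) (fun β => neg_mem (am_mem w j _))
    ⟨ex n d j hj im, free_ex hn1 j hj im him0 himl, by rw [ex_zero hn1 j hj im him0]; omega⟩ h2
  rw [← hh_topx w hn1 j hj] at h3
  let f : Idx n d → Option (TT n d j) := Sum.elim (fun _ => none) (Sum.elim (fun _ => none)
    fun β => if hβ : Free β ∧ β.1 0 + j + 1 = d then some ⟨β, hβ⟩ else none)
  have hout : ∀ s ∈ SV n d (j + 1), s ∉ u → ∃ β : FI n d, s = Sum.inr (Sum.inr β) ∧ β.1 0 + j + 1 = d := by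
    rintro (i | i | β) hs hsu
    · exact absurd (⟨hs, by simp⟩ : (Sum.inl i : Idx n d) ∈ u) hsu
    · exfalso
      apply hsu
      have h4 : i.val + (j + 1) + 1 ≤ n := hs.2
      refine ⟨⟨hs.1, by omega⟩, ?_⟩
      simp only [Set.mem_singleton_iff, Sum.inr.injEq, Sum.inl.injEq]
      intro h5
      have := congrArg Fin.val h5
      simp [im] at this
      omega
    · refine ⟨β, rfl, ?_⟩
      have h4 : d ≤ β.1 0 + (j + 1) := hs.2
      have h5 : ¬ d ≤ β.1 0 + j := fun h6 => hsu ⟨⟨hs.1, h6⟩, by simp⟩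
      omega
  refine indepOn_of_sum _ (h.mono Set.sdiff_subset) h3 f ?_ ?_
  · intro s hs hsu
    obtain ⟨β, rfl, hβ⟩ := hout s hs hsu
    by_cases hf : Free β
    · have h4 : f (Sum.inr (Sum.inr β)) = some ⟨β, hf, hβ⟩ := dif_pos ⟨hf, hβ⟩
      rw [h4]
      rfl
    · have h4 : f (Sum.inr (Sum.inr β)) = none := dif_neg fun h => hf h.1
      rw [h4, eq_of_not_free hn1 β _ hf (not_free_topx hn1 j hj) (by rw [topx_zero hn1]; omega)]
      rfl
  · intro s hs s' hs' hsu hsu' hff
    obtain ⟨β, rfl, hβ⟩ := hout s hs hsu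
    obtain ⟨β', rfl, hβ'⟩ := hout s' hs' hsu'
    by_cases hf : Free β <;> by_cases hf' : Free β'
    · simp only [f, Sum.elim_inr, hf, hβ, hf', hβ', and_self, dite_true, Option.some.injEq,
        Subtype.mk.injEq] at hff
      rw [hff]
    · simp [f, hf, hβ, hf'] at hff
    · simp [f, hf, hβ', hf'] at hff
    · rw [eq_of_not_free hn1 β β' hf hf' (by omega)]

omit [CharZero k] in
theorem indep_SV_zero (hw : AlgebraicIndepOn k (WW w) (VU n d d)) (hn : 1 ≤ n) :
    AlgebraicIndepOn k (WW w) (SV n d 0) := by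
  refine hw.mono ?_
  rintro (i | i | β) hs
  · exact hs
  · have h1 : i ≠ 0 ∧ i.val + 0 + 1 ≤ n := hs
    refine ⟨h1.1, ?_⟩
    rintro rfl
    have h2 := h1.2
    simp at h2
  · have h1 : β.1 0 ≠ d ∧ d ≤ β.1 0 + 0 := hs
    have := add_le hn β
    omega

theorem indep_SV (hn : d + 3 ≤ n) (hw : AlgebraicIndepOn k (WW w) (VU n d d)) (j : ℕ) (hj : j ≤ d) :
    AlgebraicIndepOn k (WW w) (SV n d j) := by
  induction j with
  | zero => exact indep_SV_zero w hw (by omega)
  | succ j ih => exact indep_SV_succ w hn hw j hj (ih (by omega))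

/-- `A_j` is algebraically closed in `B_j`. -/
theorem closed_SA (hn : d + 3 ≤ n) (hw : AlgebraicIndepOn k (WW w) (VU n d d)) (j : ℕ) (hj : j ≤ d) :
    ∀ z ∈ adjoin k (WW w '' VU n d j), IsAlgebraic (adjoin k (WW w '' SA n d j)) z →
      z ∈ adjoin k (WW w '' SA n d j) := by
  classical
  have hn1 : 1 ≤ n := by omega
  induction j with
  | zero =>
    intro z hz halg
    let v : Set (Idx n d) := Sum.inr '' (Sum.inl '' {i : Fin (n + 1) | i ≠ 0 ∧ i ≠ Fin.last n})
    have h1 : SA n d 0 ⊆ VU n d d := by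
      rintro (i | i | β) hs
      · exact hs
      · exact hs.elim
      · have h1 : β.1 0 ≠ d ∧ d ≤ β.1 0 + 0 := hs
        have := add_le hn1 β
        omega
    have h2 : v ⊆ VU n d d := by
      rintro _ ⟨_, ⟨i, hi, rfl⟩, rfl⟩
      exact hi
    have h3 : Disjoint (SA n d 0) v := by
      rw [Set.disjoint_left]
      rintro _ hs ⟨_, ⟨i, hi, rfl⟩, rfl⟩
      exact hs.elim
    have h4 : VU n d 0 ⊆ SA n d 0 ∪ v := by
      rintro (i | i | β) hs
      · exact Or.inl hs
      · exact Or.inr ⟨_, ⟨i, hs, rfl⟩, rfl⟩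
      · have h1 : Free β ∧ d ≤ β.1 0 + 0 := hs
        have h5 := add_le hn1 β
        have h6 : β.1 0 + β.1 (Fin.last n) ≠ d := h1.1
        omega
    refine mem_of_isAlgebraic_adjoin _ (adjoin_of_disjoint hw h1 h2 h3) z ?_ halg
    rw [← Set.image_eq_range, ← Set.image_union]
    exact adjoin.mono k _ _ (Set.image_mono h4) hz
  | succ j ih =>
    intro z hz halg
    have hcl := ih (by omega)
    have hS : WW w '' SA n d j ⊆ adjoin k (WW w '' VU n d j) :=
      (Set.image_mono (SA_subset_SV j)).trans (image_SV_subset w hn1 j)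
    let i₁ : Fin (n + 1) := ⟨1, by omega⟩
    let i₂ : Fin (n + 1) := ⟨2, by omega⟩
    have h10 : i₁ ≠ 0 := fun h => by simpa [i₁] using congrArg Fin.val h
    have h20 : i₂ ≠ 0 := fun h => by simpa [i₂] using congrArg Fin.val h
    have h12' : i₁ ≠ i₂ := fun h => by simpa [i₁, i₂] using congrArg Fin.val h
    have h1l : i₁ ≠ Fin.last n := fun h => by
      have := congrArg Fin.val h
      simp [i₁] at this
      omega
    have h2l : i₂ ≠ Fin.last n := fun h => by
      have := congrArg Fin.val h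
      simp [i₂] at this
      omega
    let e₁ : TT n d j := ⟨ex n d j hj i₁, free_ex hn1 j hj i₁ h10 h1l, by rw [ex_zero hn1 j hj i₁ h10]; omega⟩
    let e₂ : TT n d j := ⟨ex n d j hj i₂, free_ex hn1 j hj i₂ h20 h2l, by rw [ex_zero hn1 j hj i₂ h20]; omega⟩
    have h12 : AlgebraicIndependent (adjoin k (WW w '' SA n d j)) ![- am w e₁.1.1, - am w e₂.1.1] := by
      let v : Set (Idx n d) := {Sum.inr (Sum.inl i₁), Sum.inr (Sum.inl i₂)}
      have h1 : v ⊆ SV n d j := by
        rintro _ (rfl | rfl)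
        · exact ⟨h10, by simp only [i₁]; omega⟩
        · exact ⟨h20, by simp only [i₂]; omega⟩
      have h2 : Disjoint (SA n d j) v := by
        rw [Set.disjoint_left]
        rintro _ hs (rfl | rfl)
        · exact hs.elim
        · exact hs.elim
      have h3 := adjoin_of_disjoint (indep_SV w hn hw j (by omega)) (SA_subset_SV j) h1 h2
      let f : Fin 2 → v := ![⟨Sum.inr (Sum.inl i₁), Or.inl rfl⟩, ⟨Sum.inr (Sum.inl i₂), Or.inr rfl⟩]
      have hf : Function.Injective f := by
        intro a b hab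
        fin_cases a <;> fin_cases b
        · rfl
        · exact absurd (Sum.inl_injective (Sum.inr_injective (congrArg Subtype.val hab))) h12'
        · exact absurd (Sum.inl_injective (Sum.inr_injective (congrArg Subtype.val hab))).symm h12'
        · rfl
      have h4 := neg_indep (h3.comp f hf)
      convert h4 using 1
      ext a
      fin_cases a
      · simp only [e₁, Fin.zero_eta, Matrix.cons_val_zero, f]
        rw [am_ex w j hj i₁ h10 h1l]
        rfl
      · simp only [e₂, Fin.mk_one, Matrix.cons_val_one, f]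
        rw [am_ex w j hj i₂ h20 h2l]
        rfl
    have h3 := mem_step' hS (Set.toFinite _) hcl (fun β : TT n d j => hh w β.1) (indep_TT w hw j hj)
      (fun β => - am w β.1.1) (fun β => neg_mem (am_mem w j _)) e₁ e₂ h12 z
    rw [← hh_topx w hn1 j hj] at h3
    have h4 : WW w '' SA n d j ∪ (Set.range (fun β : TT n d j => hh w β.1) ∪ {hh w (topx n d j hj)}) =
        WW w '' SA n d (j + 1) := by
      apply Set.Subset.antisymm
      · rintro _ (⟨s, hs, rfl⟩ | ⟨β, rfl⟩ | rfl)
        · refine ⟨s, ?_, rfl⟩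
          rcases s with i | i | β
          · exact hs
          · exact hs.elim
          · exact ⟨hs.1, hs.2.trans (by omega)⟩
        · have h5 := β.2.2
          exact ⟨Sum.inr (Sum.inr β.1), ⟨by omega, by omega⟩, rfl⟩
        · have h5 := topx_zero hn1 j hj
          exact ⟨Sum.inr (Sum.inr (topx n d j hj)), ⟨by omega, by omega⟩, rfl⟩
      · rintro _ ⟨i | i | β, hs, rfl⟩
        · exact Or.inl ⟨Sum.inl i, hs, rfl⟩
        · exact hs.elim
        · have h5 : β.1 0 ≠ d ∧ d ≤ β.1 0 + (j + 1) := hs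
          by_cases h6 : d ≤ β.1 0 + j
          · exact Or.inl ⟨Sum.inr (Sum.inr β), ⟨h5.1, h6⟩, rfl⟩
          right
          by_cases hf : Free β
          · exact Or.inl ⟨⟨β, hf, by omega⟩, rfl⟩
          · right
            rw [eq_of_not_free hn1 β _ hf (not_free_topx hn1 j hj) (by rw [topx_zero hn1]; omega)]
            rfl
    have h5 : VU n d (j + 1) ⊆ VU n d j ∪ Set.range (fun β : TT n d j => Sum.inr (Sum.inr β.1)) := by
      rintro (i | i | β) hs
      · exact Or.inl hs
      · exact Or.inl hs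
      · have h5 : Free β ∧ d ≤ β.1 0 + (j + 1) := hs
        by_cases h6 : d ≤ β.1 0 + j
        · exact Or.inl ⟨h5.1, h6⟩
        · exact Or.inr ⟨⟨β, h5.1, by omega⟩, rfl⟩
    rw [h4] at h3
    refine h3 ?_ halg
    refine adjoin.mono k _ _ ?_ hz
    refine (Set.image_mono h5).trans ?_
    rw [Set.image_union]
    refine Set.union_subset_union_right _ ?_
    rintro _ ⟨_, ⟨β, rfl⟩, rfl⟩
    exact ⟨β, rfl⟩

end Fields

end K22.HFld
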