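import Groth.Agent.Fano.K22.HFld

/-!
# The generic pointed line on the generic hypersurface (end of the proof)
-/

set_option autoImplicit false

universe u v

open MvPolynomial

namespace K22.HLine

open K745.HDef W4swstmapratcurves Groth.Agent.Lefpen.H701 K22.HSub K22.HTr K22.HFld

section Equation

variable {n d : ℕ} {Y : Type u} [Field Y] (w : Idx n d → Y)

theorem prod_eq (β : FI n d) :
    ∏ i, (if i = 0 then X 0 else C (aa w i) * X 1 : MvPolynomial (Fin 2) Y) ^ β.1 i =
      C (am w β.1) * (X 0 ^ β.1 0 * X 1 ^ (d - β.1 0)) := by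
  classical
  have h1 : ∀ i, (if i = 0 then X 0 else C (aa w i) * X 1 : MvPolynomial (Fin 2) Y) ^ β.1 i =
      C ((if i = 0 then 1 else aa w i) ^ β.1 i) * (if i = 0 then X 0 else X 1) ^ β.1 i := by
    intro i
    split_ifs
    · simp
    · rw [mul_pow, C_pow]
  simp_rw [h1, Finset.prod_mul_distrib]
  rw [← map_prod]
  congr 1
  rw [← Finset.mul_prod_erase _ _ (Finset.mem_univ (0 : Fin (n + 1))), if_pos rfl]
  congr 1
  have h2 : ∏ i ∈ Finset.univ.erase (0 : Fin (n + 1)), (if i = 0 then X 0 else X 1 : MvPolynomial (Fin 2) Y) ^ β.1 i =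
      ∏ i ∈ Finset.univ.erase (0 : Fin (n + 1)), X 1 ^ β.1 i := by
    refine Finset.prod_congr rfl fun i hi => ?_
    rw [if_neg (Finset.ne_of_mem_erase hi)]
  rw [h2, Finset.prod_pow_eq_pow_sum]
  congr 1
  have h3 := degree_eq_sum β
  rw [← Finset.add_sum_erase _ _ (Finset.mem_univ (0 : Fin (n + 1)))] at h3
  omega

/-- The line lies on the hypersurface. -/
theorem aeval_line (hn : 1 ≤ n) :
    MvPolynomial.aeval (fun l => (MvPolynomial.C (xx w l) * MvPolynomial.X 0 +
        MvPolynomial.C (aa w l) * MvPolynomial.X 1 : MvPolynomial (Fin 2) Y)) (formOf (shift (xx w) (hh w))) = 0 := by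
  classical
  rw [formOf_shift]
  have h1 : (MvPolynomial.aeval (fun l => (MvPolynomial.C (xx w l) * MvPolynomial.X 0 +
        MvPolynomial.C (aa w l) * MvPolynomial.X 1 : MvPolynomial (Fin 2) Y))).comp (aeval (lf (xx w))) =
      aeval fun i => (if i = 0 then X 0 else C (aa w i) * X 1 : MvPolynomial (Fin 2) Y) := by
    ext1 i
    rw [AlgHom.comp_apply, aeval_X, aeval_X, lf]
    by_cases hi : i = 0
    · rw [if_pos hi, if_pos hi, aeval_X]
      simp [xx, aa]
    · rw [if_neg hi, if_neg hi, map_sub, map_mul, aeval_X, aeval_X, aeval_C, MvPolynomial.algebraMap_eq]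
      have h2 : xx w 0 = 1 := if_pos rfl
      have h3 : aa w 0 = 0 := if_pos rfl
      rw [h2, h3]
      simp
  have h2 := congr($h1 (formOf (hh w)))
  rw [AlgHom.comp_apply] at h2
  rw [h2]
  unfold formOf
  rw [map_sum]
  have h3 : ∀ β : FI n d, aeval (fun i => (if i = 0 then X 0 else C (aa w i) * X 1 : MvPolynomial (Fin 2) Y))
      (monomial β.1 (hh w β)) = C (hh w β * am w β.1) * (X 0 ^ β.1 0 * X 1 ^ (d - β.1 0)) := by
    intro β
    rw [aeval_monomial, Finsupp.prod_fintype _ _ (fun i => pow_zero _), prod_eq, MvPolynomial.algebraMap_eq,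
      C_mul, mul_assoc]
  simp_rw [h3]
  rw [← Finset.sum_fiberwise_of_maps_to (s := Finset.univ) (t := Finset.range (d + 1)) (g := fun β : FI n d => β.1 0)]
  · refine Finset.sum_eq_zero fun e he => ?_
    rw [Finset.mem_range] at he
    have h4 : ∑ β ∈ Finset.univ.filter (fun β : FI n d => β.1 0 = e),
        C (hh w β * am w β.1) * (X 0 ^ β.1 0 * X 1 ^ (d - β.1 0) : MvPolynomial (Fin 2) Y) =
        C (∑ β ∈ Finset.univ.filter (fun β : FI n d => β.1 0 = e), hh w β * am w β.1) *
          (X 0 ^ e * X 1 ^ (d - e)) := by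
      rw [map_sum, Finset.sum_mul]
      refine Finset.sum_congr rfl fun β hβ => ?_
      rw [Finset.mem_filter] at hβ
      rw [hβ.2]
    rw [h4, rel w hn e (by omega), C_0, zero_mul]
  · intro β _
    rw [Finset.mem_range]
    have := add_le hn β
    omega

theorem linearIndependent (hn : 1 ≤ n) : LinearIndependent Y ![xx w, aa w] := by
  rw [LinearIndependent.pair_iff]
  intro s t h
  have h1 := congrFun h 0
  have h2 := congrFun h (Fin.last n)
  simp only [Pi.add_apply, Pi.smul_apply, smul_eq_mul, Pi.zero_apply] at h1 h2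
  have h3 : xx w 0 = 1 := if_pos rfl
  have h4 : aa w 0 = 0 := if_pos rfl
  have h5 : aa w (Fin.last n) = 1 := by
    rw [aa, if_neg (zero_ne_last hn).symm, if_pos rfl]
  rw [h3, h4, mul_one, mul_zero, add_zero] at h1
  rw [h5, h1, zero_mul, zero_add, mul_one] at h2
  exact ⟨h1, h2⟩

end Equation

section Exponents

variable (n d : ℕ)

/-- The exponent of `X_0^d`. -/
noncomputable def x0 : FI n d := ⟨Finsupp.single 0 d, Finsupp.degree_single _ _⟩

variable {n d}

theorem x0_zero : (x0 n d).1 0 = d := by simp [x0]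

theorem eq_x0_iff (hn : 1 ≤ n) (β : FI n d) : β = x0 n d ↔ β.1 0 = d := by
  constructor
  · rintro rfl
    exact x0_zero
  · intro h
    have h1 : ∀ β : FI n d, β.1 0 = d → ¬ Free β := by
      intro β h
      have := add_le hn β
      unfold Free
      omega
    exact eq_of_not_free hn _ _ (h1 _ h) (h1 _ x0_zero) (by rw [h, x0_zero])

end Exponents

section Fields

open IntermediateField

variable {k : Type u} [Field k] {Y : Type u} [Field Y] [Algebra k Y] {n d : ℕ} (w : Idx n d → Y)

/-- The coefficients of the form. -/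
noncomputable def gam : FI n d → Y := shift (xx w) (hh w)

theorem gam_x0 (hn : 1 ≤ n) : gam w (x0 n d) =
    ∑ β : {β : FI n d // β ≠ x0 n d}, (- ∏ i, xx w i ^ β.1.1 i) * gam w β.1 := by
  classical
  have h1 : eval (xx w) (formOf (gam w)) = 0 := by
    rw [gam, eval_formOf_shift, eval_formOf]
    have hx0 : xx w 0 = 1 := if_pos rfl
    refine Finset.sum_eq_zero fun β _ => ?_
    by_cases h : β.1 0 = d
    · rw [hh_of_eq w hn β h, zero_mul]
    · obtain ⟨i, hi, hi0⟩ : ∃ i, i ≠ 0 ∧ β.1 i ≠ 0 := by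
        by_contra! hall
        apply h
        have h5 := degree_eq_sum β
        rwa [Finset.sum_eq_single 0 (fun i _ hi => hall i hi) (fun h => absurd (Finset.mem_univ _) h)] at h5
      rw [Finset.prod_eq_zero (Finset.mem_univ i), mul_zero]
      rw [if_neg hi, hx0, mul_one, sub_self, zero_pow hi0]
  rw [eval_formOf, ← Finset.add_sum_erase _ _ (Finset.mem_univ (x0 n d))] at h1
  have h2 : ∏ i, xx w i ^ (x0 n d).1 i = 1 := by
    refine Finset.prod_eq_one fun i _ => ?_
    by_cases hi : i = 0
    · rw [hi, show xx w 0 = 1 from if_pos rfl, one_pow]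
    · have : (x0 n d).1 i = 0 := by simp [x0, Ne.symm hi]
      rw [this, pow_zero]
  rw [h2, mul_one] at h1
  rw [eq_neg_of_add_eq_zero_left h1, ← Finset.sum_neg_distrib,
    Finset.sum_subtype (p := fun β : FI n d => β ≠ x0 n d)]
  · refine Finset.sum_congr (by congr!) fun β _ => ?_
    ring
  · intro β
    simp

/-- The indices of the coordinates of `x`. -/
def SX (n d : ℕ) : Set (Idx n d) :=
  {s | Sum.elim (fun i => i ≠ 0) (fun _ => False) s}

theorem mon_mem (β : Fin (n + 1) →₀ ℕ) : ∏ i, xx w i ^ β i ∈ adjoin k (WW w '' SX n d) :=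
  prod_mem fun i _ => pow_mem (xx_mem w _ (fun _ hi => hi) i) _

theorem gam_mem (E : IntermediateField k Y) (hx : ∀ i, xx w i ∈ E) (hh' : ∀ β, hh w β ∈ E) (β : FI n d) :
    gam w β ∈ E := shift_mem E _ hx _ hh' β

theorem hh_mem_gam (hn : 1 ≤ n) (β : FI n d) :
    hh w β ∈ adjoin k (WW w '' SX n d ∪ Set.range fun β : {β : FI n d // β ≠ x0 n d} => gam w β.1) := by
  have hle : adjoin k (WW w '' SX n d) ≤
      adjoin k (WW w '' SX n d ∪ Set.range fun β : {β : FI n d // β ≠ x0 n d} => gam w β.1) :=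
    adjoin.mono k _ _ Set.subset_union_left
  have h1 : ∀ β : FI n d, gam w β ∈
      adjoin k (WW w '' SX n d ∪ Set.range fun β : {β : FI n d // β ≠ x0 n d} => gam w β.1) := by
    intro β
    by_cases hβ : β = x0 n d
    · rw [hβ, gam_x0 w hn]
      exact sum_mem fun β _ => mul_mem (neg_mem (hle (mon_mem w _)))
        (subset_adjoin k _ (Or.inr ⟨β, rfl⟩))
    · exact subset_adjoin k _ (Or.inr ⟨⟨β, hβ⟩, rfl⟩)
  have h2 := shift_mem _ (fun i => - xx w i) (fun i => neg_mem (hle (xx_mem w _ (fun _ hi => hi) i))) (gam w) h1 β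
  rwa [gam, shift_neg_shift] at h2

variable [CharZero k]

theorem SX_subset (j : ℕ) : SX n d ⊆ SV n d j := by
  rintro (i | i) hs
  · exact hs
  · exact hs.elim

theorem indep_hh (hn : d + 3 ≤ n) (hw : AlgebraicIndepOn k (WW w) (VU n d d)) :
    AlgebraicIndependent (adjoin k (WW w '' SX n d)) (fun β : {β : FI n d // β ≠ x0 n d} => hh w β.1) := by
  have hn1 : 1 ≤ n := by omega
  let v : Set (Idx n d) := Set.range fun β : {β : FI n d // β ≠ x0 n d} => Sum.inr (Sum.inr β.1)
  have h1 : v ⊆ SV n d d := by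
    rintro _ ⟨β, rfl⟩
    exact ⟨fun h => β.2 ((eq_x0_iff hn1 _).mpr h), by omega⟩
  have h2 : Disjoint (SX n d) v := by
    rw [Set.disjoint_left]
    rintro _ hs ⟨β, rfl⟩
    exact hs.elim
  have h3 := adjoin_of_disjoint (indep_SV w hn hw d le_rfl) (SX_subset d) h1 h2
  exact h3.comp (fun β : {β : FI n d // β ≠ x0 n d} => (⟨_, β, rfl⟩ : v)) fun β β' h => by
    have := congrArg Subtype.val h
    simp only [Sum.inr.injEq] at this
    exact Subtype.ext this

theorem indep_gam' (hn : d + 3 ≤ n) (hw : AlgebraicIndepOn k (WW w) (VU n d d)) :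
    AlgebraicIndependent (adjoin k (WW w '' SX n d)) (fun β : {β : FI n d // β ≠ x0 n d} => gam w β.1) := by
  refine algebraicIndependent_of_mem_adjoin _ _ (indep_hh w hn hw) fun β => ?_
  rw [mem_adjoin_adjoin_iff]
  exact hh_mem_gam w (by omega) β.1

/-- The exponent of `X_0^{d-1} X_i`. -/
noncomputable def x1 (n d : ℕ) (hd : 1 ≤ d) (i : Fin (n + 1)) : FI n d :=
  ⟨Finsupp.single 0 (d - 1) + Finsupp.single i 1, by
    rw [map_add, Finsupp.degree_single, Finsupp.degree_single]
    omega⟩

omit [Algebra k Y] [CharZero k] in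
theorem prod_x1 (hd : 1 ≤ d) (i : Fin (n + 1)) (hi : i ≠ 0) : ∏ l, xx w l ^ (x1 n d hd i).1 l = xx w i := by
  classical
  rw [Finset.prod_eq_single i]
  · simp [x1, hi]
  · intro l _ hl
    by_cases h0 : l = 0
    · rw [h0, show xx w 0 = 1 from if_pos rfl, one_pow]
    · simp [x1, Ne.symm h0, Ne.symm hl]
  · simp

omit [Algebra k Y] [CharZero k] in
theorem x1_ne (hn : 1 ≤ n) (hd : 1 ≤ d) (i : Fin (n + 1)) (hi : i ≠ 0) : x1 n d hd i ≠ x0 n d := by
  rw [Ne, eq_x0_iff hn]
  simp [x1, hi]
  omega

/-- The coefficients are algebraically independent and generate an algebraically closed subfield. -/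
theorem gam_main (hd : 1 ≤ d) (hn : d + 3 ≤ n) (hw : AlgebraicIndepOn k (WW w) (VU n d d)) :
    AlgebraicIndependent k (gam w) ∧
    ∀ z ∈ adjoin k (WW w '' VU n d d), IsAlgebraic (adjoin k (Set.range (gam w))) z →
        z ∈ adjoin k (Set.range (gam w)) := by
  classical
  have hn1 : 1 ≤ n := by omega
  let i₁ : Fin (n + 1) := ⟨1, by omega⟩
  let i₂ : Fin (n + 1) := ⟨2, by omega⟩
  have h10 : i₁ ≠ 0 := fun h => by simpa [i₁] using congrArg Fin.val h
  have h20 : i₂ ≠ 0 := fun h => by simpa [i₂] using congrArg Fin.val h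
  have h12' : i₁ ≠ i₂ := fun h => by simpa [i₁, i₂] using congrArg Fin.val h
  let e₁ : {β : FI n d // β ≠ x0 n d} := ⟨x1 n d hd i₁, x1_ne hn1 hd i₁ h10⟩
  let e₂ : {β : FI n d // β ≠ x0 n d} := ⟨x1 n d hd i₂, x1_ne hn1 hd i₂ h20⟩
  have hsub : SX n d ⊆ VU n d d := by
    rintro (i | i) hs
    · exact hs
    · exact hs.elim
  have h12 : AlgebraicIndependent (adjoin k (∅ : Set Y))
      ![- ∏ l, xx w l ^ e₁.1.1 l, - ∏ l, xx w l ^ e₂.1.1 l] := by
    let v : Set (Idx n d) := {Sum.inl i₁, Sum.inl i₂}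
    have h1 : v ⊆ VU n d d := by
      rintro _ (rfl | rfl)
      · exact h10
      · exact h20
    have h3 := adjoin_of_disjoint hw (Set.empty_subset _) h1 (Set.empty_disjoint _)
    rw [Set.image_empty] at h3
    let f : Fin 2 → v := ![⟨Sum.inl i₁, Or.inl rfl⟩, ⟨Sum.inl i₂, Or.inr rfl⟩]
    have hf : Function.Injective f := by
      intro a b hab
      fin_cases a <;> fin_cases b
      · rfl
      · exact absurd (Sum.inl_injective (congrArg Subtype.val hab)) h12'
      · exact absurd (Sum.inl_injective (congrArg Subtype.val hab)).symm h12'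
      · rfl
    have h4 := neg_indep (h3.comp f hf)
    convert h4 using 1
    ext a
    fin_cases a
    · simp only [e₁, Fin.zero_eta, Matrix.cons_val_zero, f]
      rw [prod_x1 w hd i₁ h10]
      rfl
    · simp only [e₂, Fin.mk_one, Matrix.cons_val_one, f]
      rw [prod_x1 w hd i₂ h20]
      rfl
  have hg : ∀ β : {β : FI n d // β ≠ x0 n d}, - ∏ i, xx w i ^ β.1.1 i ∈ adjoin k (WW w '' SX n d) :=
    fun β => neg_mem (mon_mem w _)
  have ht := indep_gam' w hn hw
  have hr : Set.range (fun β : {β : FI n d // β ≠ x0 n d} => gam w β.1) ∪ {gam w (x0 n d)} =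
      Set.range (gam w) := by
    apply Set.Subset.antisymm
    · rintro _ (⟨β, rfl⟩ | rfl)
      · exact ⟨_, rfl⟩
      · exact ⟨_, rfl⟩
    · rintro _ ⟨β, rfl⟩
      by_cases hβ : β = x0 n d
      · right
        rw [hβ]
        rfl
      · exact Or.inl ⟨⟨β, hβ⟩, rfl⟩
  constructor
  · have h1 := option_sum' (k := k) (S := ∅) (T := WW w '' SX n d) (Set.empty_subset _) _ ht _ hg e₁
      (h12.transcendental 0)
    rw [← gam_x0 w hn1] at h1
    have h2 := h1.restrictScalars (R := k) (algebraMap k (adjoin k (∅ : Set Y))).injective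
    let f : FI n d → Option {β : FI n d // β ≠ x0 n d} := fun β => if h : β = x0 n d then none else some ⟨β, h⟩
    have hf : Function.Injective f := by
      intro β β' h
      by_cases h1 : β = x0 n d <;> by_cases h2 : β' = x0 n d
      · rw [h1, h2]
      · simp [f, h1, h2] at h
      · simp [f, h1, h2] at h
      · simpa [f, h1, h2] using h
    have h3 := h2.comp f hf
    convert h3 using 1
    ext β
    by_cases h1 : β = x0 n d
    · simp [f, h1]
    · simp [f, h1]
  · intro z hz halg
    have hcl : ∀ a ∈ adjoin k (WW w '' SX n d), IsAlgebraic (adjoin k (∅ : Set Y)) a → a ∈ adjoin k (∅ : Set Y) := by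
      intro a ha haa
      have h3 := adjoin_of_disjoint hw (Set.empty_subset _) hsub (Set.empty_disjoint _)
      rw [Set.image_empty] at h3
      refine mem_of_isAlgebraic_adjoin _ h3 a ?_ haa
      rw [← Set.image_eq_range, Set.empty_union]
      exact ha
    have h1 := mem_step' (k := k) (S := ∅) (T := WW w '' SX n d) (Set.empty_subset _) (Set.toFinite _) hcl _ ht _ hg
      e₁ e₂ h12 z
    rw [← gam_x0 w hn1, hr, Set.empty_union] at h1
    refine h1 ?_ halg
    -- `z` is in `A_d`
    have h2 : adjoin k (Set.range (gam w)) ≤ adjoin k (WW w '' SA n d d) := by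
      rw [adjoin_le_iff]
      rintro _ ⟨β, rfl⟩
      refine gam_mem w _ (xx_mem w _ fun _ hi => hi) ?_ β
      intro β
      by_cases hβ : β.1 0 = d
      · rw [hh_of_eq w hn1 β hβ]
        exact zero_mem _
      · exact subset_adjoin k _ ⟨Sum.inr (Sum.inr β), ⟨hβ, by omega⟩, rfl⟩
    have h3 : IsAlgebraic (adjoin k (WW w '' SA n d d)) z := by
      let _ : Algebra (adjoin k (Set.range (gam w))) (adjoin k (WW w '' SA n d d)) := (inclusion h2).toRingHom.toAlgebra
      have : IsScalarTower (adjoin k (Set.range (gam w))) (adjoin k (WW w '' SA n d d)) Y :=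
        .of_algebraMap_eq fun _ => rfl
      exact halg.tower_top _
    have h4 := closed_SA w hn hw d le_rfl z hz h3
    refine (adjoin_le_iff (S := WW w '' SA n d d)).mpr ?_ h4
    rintro _ ⟨i | i | β, hs, rfl⟩
    · exact subset_adjoin k _ (Or.inl ⟨Sum.inl i, hs, rfl⟩)
    · exact hs.elim
    · exact hh_mem_gam w hn1 β

end Fields

section Main

open IntermediateField

/-- Node H1: the generic pointed line on the generic hypersurface; the field of the coefficients is algebraically closed in
its field of definition. -/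
theorem exists_generic_line (k : Type u) [Field k] [CharZero k] {n d : ℕ} (hd : 1 ≤ d) (hdn : d + 3 ≤ n) :
    ∃ (Y : Type u) (_ : Field Y) (_ : Algebra k Y) (γ : FI n d → Y) (x a : Fin (n + 1) → Y),
      AlgebraicIndependent k γ ∧
      (∀ z : Y, IsAlgebraic (IntermediateField.adjoin k (Set.range γ)) z →
        z ∈ IntermediateField.adjoin k (Set.range γ)) ∧
      LinearIndependent Y ![x, a] ∧
      MvPolynomial.aeval (fun l => (MvPolynomial.C (x l) * MvPolynomial.X 0 +
        MvPolynomial.C (a l) * MvPolynomial.X 1 : MvPolynomial (Fin 2) Y)) (formOf γ) = 0 := by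
  classical
  let Y : Type u := FractionRing (MvPolynomial (VU n d d) k)
  let v : VU n d d → Y := fun s => algebraMap (MvPolynomial (VU n d d) k) Y (X s)
  let w : Idx n d → Y := fun s => if h : s ∈ VU n d d then v ⟨s, h⟩ else 0
  have hv : AlgebraicIndependent k v :=
    (MvPolynomial.algebraicIndependent_X (VU n d d) k).map'
      (f := IsScalarTower.toAlgHom k (MvPolynomial (VU n d d) k) Y) (IsFractionRing.injective _ _)
  have hWv : ∀ s : VU n d d, WW w s = v s := by
    intro s
    rw [WW_eq w d s.1 s.2]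
    exact dif_pos s.2
  have hw : AlgebraicIndepOn k (WW w) (VU n d d) := by
    change AlgebraicIndependent k (fun s : VU n d d => WW w s)
    simp_rw [hWv]
    exact hv
  have htop : ∀ z : Y, z ∈ adjoin k (WW w '' VU n d d) := by
    intro z
    obtain ⟨r, s, -, rfl⟩ := IsFractionRing.div_surjective (A := MvPolynomial (VU n d d) k) z
    have h1 : ∀ p : MvPolynomial (VU n d d) k, aeval v p = algebraMap _ Y p := by
      intro p
      have h2 : aeval v = IsScalarTower.toAlgHom k (MvPolynomial (VU n d d) k) Y := by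
        ext i
        simp [v]
      exact congr($h2 p)
    have h3 : WW w '' VU n d d = Set.range v := by
      rw [Set.image_eq_range]
      congr 1
      ext s
      exact hWv s
    rw [h3, mem_adjoin_range_iff]
    exact ⟨r, s, by rw [h1, h1]⟩
  obtain ⟨h1, h2⟩ := gam_main w hd hdn hw
  exact ⟨Y, inferInstance, inferInstance, gam w, xx w, aa w, h1, fun z hz => h2 z (htop z) hz,
    linearIndependent w (by omega), aeval_line w (by omega)⟩

end Main

end K22.HLine

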