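import Groth.Agent.Fano.K745.HDef

/-!
# The substitution `G ↦ G(X_0, X_i - x_i X_0)` of forms

* `shift x h`: the coefficients of `G(X_0, X_i - x_i X_0)`, where `G` has the coefficients `h`;
* `shift_neg_shift`: its inverse.
-/

set_option autoImplicit false

universe u v

open MvPolynomial

namespace K22.HSub

open K745.HDef W4swstmapratcurves Groth.Agent.Lefpen.H701

variable {n d : ℕ}

section

variable {A : Type u} [CommRing A]

theorem isHomogeneous_formOf (γ : FI n d → A) : (formOf γ).IsHomogeneous d := by
  unfold formOf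
  refine IsHomogeneous.sum _ _ _ fun α _ => ?_
  exact isHomogeneous_monomial _ α.2

theorem coeff_formOf (γ : FI n d → A) (β : FI n d) : coeff β.1 (formOf γ) = γ β := by
  classical
  unfold formOf
  rw [coeff_sum, Finset.sum_eq_single β]
  · rw [coeff_monomial, if_pos rfl]
  · intro α _ hα
    rw [coeff_monomial, if_neg fun h => hα (Subtype.ext h)]
  · simp

theorem formOf_coeff (P : MvPolynomial (Fin (n + 1)) A) (hP : P.IsHomogeneous d) :
    formOf (fun β : FI n d => coeff β.1 P) = P := by
  classical
  ext e
  by_cases he : e.degree = d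
  · exact coeff_formOf _ ⟨e, he⟩
  · rw [(isHomogeneous_formOf _).coeff_eq_zero he, hP.coeff_eq_zero he]

theorem formOf_injective : Function.Injective (formOf : (FI n d → A) → MvPolynomial (Fin (n + 1)) A) := by
  intro γ γ' h
  ext β
  rw [← coeff_formOf γ, h, coeff_formOf]

theorem eval_formOf (γ : FI n d → A) (y : Fin (n + 1) → A) :
    eval y (formOf γ) = ∑ β : FI n d, γ β * ∏ i, y i ^ β.1 i := by
  unfold formOf
  rw [map_sum]
  refine Finset.sum_congr rfl fun β _ => ?_
  rw [eval_monomial, Finsupp.prod_fintype]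
  simp

/-- The linear forms `X_0, X_i - x_i X_0`. -/
noncomputable def lf (x : Fin (n + 1) → A) (i : Fin (n + 1)) : MvPolynomial (Fin (n + 1)) A :=
  if i = 0 then X 0 else X i - C (x i) * X 0

/-- The coefficients of `G(X_0, X_i - x_i X_0)`. -/
noncomputable def shift (x : Fin (n + 1) → A) (h : FI n d → A) : FI n d → A :=
  fun β => coeff β.1 (aeval (lf x) (formOf h))

theorem isHomogeneous_lf (x : Fin (n + 1) → A) (i : Fin (n + 1)) : (lf x i).IsHomogeneous 1 := by
  unfold lf
  split_ifs
  · exact isHomogeneous_X _ _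
  · refine (isHomogeneous_X _ _).sub ?_
    have := (isHomogeneous_C (Fin (n + 1)) (x i)).mul (isHomogeneous_X A (0 : Fin (n + 1)))
    rwa [zero_add] at this

theorem formOf_shift (x : Fin (n + 1) → A) (h : FI n d → A) :
    formOf (shift x h) = aeval (lf x) (formOf h) := by
  refine formOf_coeff _ ?_
  have := (isHomogeneous_formOf h).aeval _ (isHomogeneous_lf x)
  rwa [one_mul] at this

theorem aeval_lf_lf (x : Fin (n + 1) → A) (i : Fin (n + 1)) : aeval (lf fun i => - x i) (lf x i) = X i := by
  by_cases hi : i = 0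
  · subst hi
    simp [lf]
  · simp [lf, hi]

theorem shift_neg_shift (x : Fin (n + 1) → A) (h : FI n d → A) : shift (fun i => - x i) (shift x h) = h := by
  apply formOf_injective
  rw [formOf_shift, formOf_shift]
  have h1 : (aeval (lf fun i => - x i)).comp (aeval (lf x)) = AlgHom.id A _ := by
    ext1 i
    rw [AlgHom.comp_apply, aeval_X, aeval_lf_lf, AlgHom.id_apply]
  exact congr($h1 (formOf h))

theorem eval_formOf_shift (x : Fin (n + 1) → A) (h : FI n d → A) (y : Fin (n + 1) → A) :
    eval y (formOf (shift x h)) = eval (fun i => if i = 0 then y 0 else y i - x i * y 0) (formOf h) := by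
  rw [formOf_shift]
  have h1 : (aeval y : MvPolynomial (Fin (n + 1)) A →ₐ[A] A).comp (aeval (lf x)) =
      aeval (fun i => if i = 0 then y 0 else y i - x i * y 0) := by
    ext1 i
    rw [AlgHom.comp_apply, aeval_X, aeval_X]
    unfold lf
    split_ifs <;> simp
  exact congr($h1 (formOf h))

end

section

variable {A : Type u} {B : Type v} [CommRing A] [CommRing B] (φ : A →+* B)

theorem map_formOf' {B : Type u} [CommRing B] (φ : A →+* B) (h : FI n d → A) :
    (formOf h).map φ = formOf (fun β => φ (h β)) := by
  unfold formOf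
  rw [map_sum]
  simp

theorem shift_map {B : Type u} [CommRing B] (φ : A →+* B) (x : Fin (n + 1) → A) (h : FI n d → A) (β : FI n d) :
    φ (shift x h β) = shift (fun i => φ (x i)) (fun β => φ (h β)) β := by
  unfold shift
  rw [← coeff_map, ← map_formOf']
  congr 1
  have h1 : (MvPolynomial.map φ).comp (aeval (lf x) : MvPolynomial (Fin (n + 1)) A →ₐ[A] _).toRingHom =
      (aeval (lf fun i => φ (x i)) : MvPolynomial (Fin (n + 1)) B →ₐ[B] _).toRingHom.comp (MvPolynomial.map φ) := by
    apply MvPolynomial.ringHom_ext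
    · intro a
      simp
    · intro i
      simp only [AlgHom.toRingHom_eq_coe, RingHom.coe_comp, RingHom.coe_coe, Function.comp_apply, aeval_X, map_X]
      unfold lf
      split_ifs <;> simp
  exact congr($h1 (formOf h))

end

/-- The coefficients of the new form are in any intermediate field which contains the old ones and the `x_i`. -/
theorem shift_mem {k Y : Type u} [Field k] [Field Y] [Algebra k Y] (E : IntermediateField k Y)
    (x : Fin (n + 1) → Y) (hx : ∀ i, x i ∈ E) (h : FI n d → Y) (hh : ∀ β, h β ∈ E) (β : FI n d) :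
    shift x h β ∈ E := by
  have h1 := shift_map (algebraMap E Y) (fun i => (⟨x i, hx i⟩ : E)) (fun β : FI n d => (⟨h β, hh β⟩ : E)) β
  have h2 : shift x h β = algebraMap E Y (shift (fun i => (⟨x i, hx i⟩ : E)) (fun β : FI n d => (⟨h β, hh β⟩ : E)) β) :=
    h1.symm
  rw [h2]
  exact (shift (fun i => (⟨x i, hx i⟩ : E)) (fun β : FI n d => (⟨h β, hh β⟩ : E)) β).2

end K22.HSub
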